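import Groth.Agent.W7Slope.Sat
import Groth.Agent.CurveRR.Deg
import Groth.Prelude.Def_ModFun2

/-!
# Homomorphisms between semistable modules on regular integral curves
-/

set_option autoImplicit false
set_option linter.style.haveILetI false
set_option linter.unusedSectionVars false
set_option backward.isDefEq.respectTransparency false

universe u

open CategoryTheory CategoryTheory.Limits AlgebraicGeometry TopologicalSpace Opposite
open Groth.Agent.CurveRR
open Groth.Agent.CohFinite (isCoh_of_iso)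

noncomputable section

namespace Groth.Agent.W7Slope

variable {k : Type u} [Field k] {X : Scheme.{u}} [X.Over (Spec (CommRingCat.of k))]
  [IsProper (X ↘ Spec (CommRingCat.of k))]

variable (k) in
include k in
theorem isIntegral_of_geomConn [Smooth (X ↘ Spec (CommRingCat.of k))]
    [GeometricallyConnected (X ↘ Spec (CommRingCat.of k))] (hdim : topologicalKrullDim X = 1) : IsIntegral X := by
  haveI := isNoetherian_of_proper k X
  haveI : Nonempty X := by
    by_contra h
    rw [not_nonempty_iff] at h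
    haveI : IsEmpty (IrreducibleCloseds X) := ⟨fun Z => isEmptyElim Z.isIrreducible'.nonempty.some⟩
    rw [topologicalKrullDim, Order.krullDim_eq_bot] at hdim
    cases hdim
  haveI : ConnectedSpace X :=
    GeometricallyConnected.connectedSpace_of_subsingleton (f := X ↘ Spec (CommRingCat.of k))
  haveI : IsReduced X := Groth.Agent.SmoothRed.isReduced_of_smooth_scheme (X ↘ Spec (CommRingCat.of k))
  haveI : IrreducibleSpace X := Easy.irreducibleSpace_of_domain_stalks fun x => by
    haveI := SmLocalST.isRegularLocalRing_stalk_of_smooth_field (X ↘ Spec (CommRingCat.of k)) x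
    exact Groth.Agent.S0558.result _
  exact isIntegral_of_irreducibleSpace_of_isReduced X

theorem rank_iso {M N : X.Modules} {r : ℕ} (e : M ≅ N) (h : FlatMod.IsFinLocFreeOfRank r M) :
    FlatMod.IsFinLocFreeOfRank r N := fun x => by
  obtain ⟨U, hU, ⟨a⟩⟩ := h x
  exact ⟨U, hU, ⟨((Scheme.Modules.restrictFunctor U.ι).mapIso e).symm ≪≫ a⟩⟩

theorem deg_iso {M N : X.Modules} (e : M ≅ N) (n : ℕ) : Curv2.deg k X M n = Curv2.deg k X N n := by
  rw [Curv2.deg, Curv2.deg, euler_eq_of_iso e]

variable [IsIntegral X]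

variable (k) in
include k in
theorem rank_unique {M : X.Modules} {m n : ℕ} (h : FlatMod.IsFinLocFreeOfRank m M)
    (h' : FlatMod.IsFinLocFreeOfRank n M) : m = n := by
  haveI := isNoetherian_of_proper k X
  rw [← grk_of_rank h, grk_of_rank h']

variable (k) in
theorem cdeg_isZero {F : X.Modules} (h : IsZero F) (hF : Coh.IsCoh F) : cdeg k F = 0 := by
  have hS : (ShortComplex.mk (0 : F ⟶ F) (0 : F ⟶ F) zero_comp).ShortExact :=
    { exact := ShortComplex.exact_of_isZero_X₂ _ h
      mono_f := ⟨fun _ _ _ => h.eq_of_tgt _ _⟩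
      epi_g := ⟨fun _ _ _ => h.eq_of_src _ _⟩ }
  have := cdeg_add (k := k) hS hF hF hF
  change cdeg k F = cdeg k F + cdeg k F at this
  omega

variable (k) in
theorem deg_rank_zero {F : X.Modules} (h : FlatMod.IsFinLocFreeOfRank 0 F) : Curv2.deg k X F 0 = 0 := by
  haveI := isNoetherian_of_proper k X
  exact (deg_eq h).trans (cdeg_isZero k (isZero_of_rank_zero h) (isCoh_of_rank h))

variable (k) in
/-- The slope inequality for submodules, rank zero included. -/
theorem sub_le {E G : X.Modules} {r n : ℕ} (hss : ModFun.IsSlopeSemistable k X E r) (i : G ⟶ E) [Mono i]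
    (hG : FlatMod.IsFinLocFreeOfRank n G) : Curv2.deg k X G n * (r : ℤ) ≤ Curv2.deg k X E r * (n : ℤ) := by
  rcases Nat.eq_zero_or_pos n with rfl | hn
  · simp [deg_rank_zero k hG]
  · exact hss G n i inferInstance hn hG

variable (k) in
/-- Semistability from stability on proper submodules. -/
theorem ss_of_stable {E : X.Modules} {r : ℕ} (hE : FlatMod.IsFinLocFreeOfRank r E)
    (hst : ∀ (G : X.Modules) (r' : ℕ) (i : G ⟶ E), Mono i → 0 < r' → FlatMod.IsFinLocFreeOfRank r' G →
      (¬ IsIso i) → Curv2.deg k X G r' * (r : ℤ) < Curv2.deg k X E r * (r' : ℤ)) :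
    ModFun.IsSlopeSemistable k X E r ∧ ModFun.IsSlopeStable k X E r := by
  refine ⟨fun G n i hi hn hG => ?_, fun G n i hi hn hnr hG => hst G n i hi hn hG fun h => ?_⟩
  · by_cases h : IsIso i
    · obtain rfl := rank_unique k (rank_iso (asIso i) hG) hE
      rw [deg_iso (k := k) (asIso i)]
    · exact (hst G n i hi hn hG h).le
  · exact hnr.ne (rank_unique k (rank_iso (@asIso _ _ _ _ i h) hG) hE)

variable (k) in
/-- The rank-`r` part of semistability, from stability. -/
theorem ss_of_slopeStable (hX : RegCurve X) {E : X.Modules} {r : ℕ} (hE : FlatMod.IsFinLocFreeOfRank r E)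
    (hst : ModFun.IsSlopeStable k X E r) : ModFun.IsSlopeSemistable k X E r := by
  intro G n i hi hn hG
  haveI := isNoetherian_of_proper k X
  rcases lt_trichotomy n r with h | rfl | h
  · exact (hst G n i hi hn h hG).le
  · refine mul_le_mul_of_nonneg_right ?_ (Int.natCast_nonneg _)
    rw [deg_eq hG, deg_eq hE]
    exact (cdeg_le_of_mono (k := k) hX.dim i (isCoh_of_rank hG) (isCoh_of_rank hE)
      (by rw [grk_of_rank hG, grk_of_rank hE])).1
  · have := grk_le_of_mono k i (isCoh_of_rank hE)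
    rw [grk_of_rank hG, grk_of_rank hE] at this
    omega

variable (k) in
theorem deg_le_of_mono (hX : RegCurve X) {G E : X.Modules} {n : ℕ} (hG : FlatMod.IsFinLocFreeOfRank n G)
    (hE : FlatMod.IsFinLocFreeOfRank n E) (i : G ⟶ E) [Mono i] :
    Curv2.deg k X G n ≤ Curv2.deg k X E n ∧ (Curv2.deg k X G n = Curv2.deg k X E n → IsIso i) := by
  haveI := isNoetherian_of_proper k X
  rw [deg_eq hG, deg_eq hE]
  exact cdeg_le_of_mono (k := k) hX.dim i (isCoh_of_rank hG) (isCoh_of_rank hE)
    (by rw [grk_of_rank hG, grk_of_rank hE])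

variable (k) in
/-- Image and kernel of a nonzero map out of a semistable module. -/
theorem image_slope (hX : RegCurve X) {E F : X.Modules} {r s : ℕ} (hE : FlatMod.IsFinLocFreeOfRank r E)
    (hF : FlatMod.IsFinLocFreeOfRank s F) (hss : ModFun.IsSlopeSemistable k X E r) (φ : E ⟶ F) :
    ∃ (I : X.Modules) (t m : ℕ) (p : E ⟶ I) (i : I ⟶ F), Epi p ∧ Mono i ∧ p ≫ i = φ ∧
      FlatMod.IsFinLocFreeOfRank t I ∧ FlatMod.IsFinLocFreeOfRank m (kernel φ) ∧ r = m + t ∧ t ≤ s ∧
      Curv2.deg k X E r = Curv2.deg k X (kernel φ) m + Curv2.deg k X I t ∧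
      Curv2.deg k X E r * (t : ℤ) ≤ Curv2.deg k X I t * (r : ℤ) ∧
      (Curv2.deg k X E r * (t : ℤ) = Curv2.deg k X I t * (r : ℤ) →
        Curv2.deg k X (kernel φ) m * (r : ℤ) = Curv2.deg k X E r * (m : ℤ)) ∧
      (φ ≠ 0 → 0 < t) := by
  obtain ⟨I, p, i, hp, hi, hfac, hI, hK, hr, hts, hd, hne⟩ := exists_image k hX hE hF φ
  have h := sub_le k hss (kernel.ι φ) hK
  have hr' : (r : ℤ) = (grk (kernel φ) : ℤ) + (grk I : ℤ) := by exact_mod_cast hr
  refine ⟨I, grk I, grk (kernel φ), p, i, hp, hi, hfac, hI, hK, hr, hts, hd, ?_, fun he => ?_, hne⟩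
  · rw [hd, hr'] at h ⊢
    linarith
  · rw [hd, hr'] at he ⊢
    linarith

variable (k) in
/-- Nonzero maps between semistable modules increase the slope. -/
theorem slope_le_of_hom (hX : RegCurve X) {E F : X.Modules} {r s : ℕ} (hE : FlatMod.IsFinLocFreeOfRank r E)
    (hF : FlatMod.IsFinLocFreeOfRank s F) (hEss : ModFun.IsSlopeSemistable k X E r)
    (hFss : ModFun.IsSlopeSemistable k X F s) (φ : E ⟶ F) (hφ : φ ≠ 0) :
    Curv2.deg k X E r * (s : ℤ) ≤ Curv2.deg k X F s * (r : ℤ) := by
  obtain ⟨I, t, m, p, i, -, hi, -, hI, -, -, -, -, h1, -, hne⟩ := image_slope k hX hE hF hEss φ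
  have h2 := sub_le k hFss i hI
  have ht : (0 : ℤ) < t := by exact_mod_cast hne hφ
  refine le_of_mul_le_mul_right ?_ ht
  nlinarith [mul_le_mul_of_nonneg_right h1 (Int.natCast_nonneg s), mul_le_mul_of_nonneg_right h2 (Int.natCast_nonneg r)]

variable (k) in
/-- Equal slopes and a stable source: nonzero maps are monomorphisms. -/
theorem mono_of_stable (hX : RegCurve X) {E F : X.Modules} {r s : ℕ} (hs : 0 < s)
    (hE : FlatMod.IsFinLocFreeOfRank r E) (hF : FlatMod.IsFinLocFreeOfRank s F)
    (hEst : ModFun.IsSlopeStable k X E r) (hFss : ModFun.IsSlopeSemistable k X F s)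
    (hμ : Curv2.deg k X F s * (r : ℤ) ≤ Curv2.deg k X E r * (s : ℤ)) (φ : E ⟶ F) (hφ : φ ≠ 0) : Mono φ := by
  haveI := isNoetherian_of_proper k X
  obtain ⟨I, t, m, p, i, -, hi, -, hI, hK, hr, -, hd, h1, h1', hne⟩ :=
    image_slope k hX hE hF (ss_of_slopeStable k hX hE hEst) φ
  have h2 := sub_le k hFss i hI
  rcases Nat.eq_zero_or_pos m with rfl | hm
  · exact Preadditive.mono_of_isZero_kernel φ (isZero_of_rank_zero hK)
  · exfalso
    have ht := hne hφ
    have h3 := hEst _ m (kernel.ι φ) inferInstance hm (by omega) hK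
    have hr' : (r : ℤ) = (m : ℤ) + (t : ℤ) := by exact_mod_cast hr
    have h4 : Curv2.deg k X E r * (t : ℤ) < Curv2.deg k X I t * (r : ℤ) := by
      rw [hd, hr'] at h3 ⊢
      linarith
    have hs' : (0 : ℤ) < s := by exact_mod_cast hs
    nlinarith [mul_lt_mul_of_pos_right h4 hs', mul_le_mul_of_nonneg_right h2 (Int.natCast_nonneg r),
      mul_le_mul_of_nonneg_right hμ (Int.natCast_nonneg t)]

variable (k) in
/-- Equal slopes and a stable target: nonzero maps are epimorphisms. -/
theorem epi_of_stable (hX : RegCurve X) {E F : X.Modules} {r s : ℕ} (hr : 0 < r)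
    (hE : FlatMod.IsFinLocFreeOfRank r E) (hF : FlatMod.IsFinLocFreeOfRank s F)
    (hEss : ModFun.IsSlopeSemistable k X E r) (hFst : ModFun.IsSlopeStable k X F s)
    (hμ : Curv2.deg k X F s * (r : ℤ) ≤ Curv2.deg k X E r * (s : ℤ)) (φ : E ⟶ F) (hφ : φ ≠ 0) : Epi φ := by
  obtain ⟨I, t, m, p, i, hp, hi, hfac, hI, -, -, hts, -, h1, -, hne⟩ := image_slope k hX hE hF hEss φ
  have ht := hne hφ
  have hr' : (0 : ℤ) < r := by exact_mod_cast hr
  have h5 : Curv2.deg k X F s * (r : ℤ) * (t : ℤ) ≤ Curv2.deg k X I t * (r : ℤ) * (s : ℤ) := by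
    nlinarith [mul_le_mul_of_nonneg_right h1 (Int.natCast_nonneg s), mul_le_mul_of_nonneg_right hμ (Int.natCast_nonneg t)]
  rcases hts.lt_or_eq with hlt | rfl
  · exfalso
    have h2 := hFst I t i hi ht hlt hI
    nlinarith [mul_lt_mul_of_pos_right h2 hr']
  · obtain ⟨hle, hiso⟩ := deg_le_of_mono k hX hI hF i
    have hpos : (0 : ℤ) < (r : ℤ) * (t : ℤ) := mul_pos hr' (by exact_mod_cast ht)
    haveI := hiso (hle.antisymm (le_of_mul_le_mul_right (by linarith) hpos))
    rw [← hfac]
    exact epi_comp p i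

variable (k) in
/-- A monomorphism between modules of the same rank and degree is an isomorphism. -/
theorem isIso_of_mono (hX : RegCurve X) {E F : X.Modules} {r : ℕ} (hE : FlatMod.IsFinLocFreeOfRank r E)
    (hF : FlatMod.IsFinLocFreeOfRank r F) (hd : Curv2.deg k X E r = Curv2.deg k X F r) (φ : E ⟶ F) [Mono φ] :
    IsIso φ := (deg_le_of_mono k hX hE hF φ).2 hd

variable (k) in
include k in
/-- An epimorphism between locally free modules of the same rank is an isomorphism. -/
theorem isIso_of_epi (hX : RegCurve X) {E F : X.Modules} {r : ℕ} (hE : FlatMod.IsFinLocFreeOfRank r E)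
    (hF : FlatMod.IsFinLocFreeOfRank r F) (φ : E ⟶ F) [Epi φ] : IsIso φ := by
  haveI := isNoetherian_of_proper k X
  have h := grk_add (shortExact_ker φ) (isCoh_of_rank hE)
  change grk E = grk (kernel φ) + grk F at h
  rw [grk_of_rank hE, grk_of_rank hF] at h
  have hK := isFinLocFree_sub k hX (kernel.ι φ) (isCoh_kernel k (isCoh_of_rank hE) (isCoh_of_rank hF) φ) hE
  rw [show grk (kernel φ) = 0 by omega] at hK
  haveI := Preadditive.mono_of_isZero_kernel φ (isZero_of_rank_zero hK)
  exact isIso_of_mono_of_epi φ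

variable (k) in
include k in
theorem pos_rank_not_isZero {E : X.Modules} {r : ℕ} (hr : 0 < r) (hE : FlatMod.IsFinLocFreeOfRank r E) :
    ¬ IsZero E := fun h => by
  haveI := isNoetherian_of_proper k X
  have h0 := ((DerSch.stalkFunctor X (genericPoint X)).map_isZero h)
  haveI : Subsingleton (E.presheaf.stalk (genericPoint X)) := ModuleCat.subsingleton_of_isZero h0
  have : grk E = 0 := Module.finrank_zero_of_subsingleton
  rw [grk_of_rank hE] at this
  omega

variable (k) in
/-- The preimage in `F` of a submodule of a quotient. -/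
theorem exists_preimage (hX : RegCurve X) {F Q G : X.Modules} {s q n : ℕ} (hF : FlatMod.IsFinLocFreeOfRank s F)
    (hQ : FlatMod.IsFinLocFreeOfRank q Q) (π : F ⟶ Q) [Epi π] (j : G ⟶ Q) [Mono j]
    (hG : FlatMod.IsFinLocFreeOfRank n G) :
    ∃ (P : X.Modules) (ι : P ⟶ F) (m : ℕ), Mono ι ∧ FlatMod.IsFinLocFreeOfRank m P ∧ m + q = s + n ∧
      Curv2.deg k X P m + Curv2.deg k X Q q = Curv2.deg k X F s + Curv2.deg k X G n := by
  haveI := isNoetherian_of_proper k X
  have hFc := isCoh_of_rank hF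
  have hQc := isCoh_of_rank hQ
  have hGc := isCoh_of_rank hG
  have hC := isCoh_cokernel k hGc hQc j
  let σ := π ≫ cokernel.π j
  haveI : Epi σ := epi_comp _ _
  have hP := isCoh_kernel k hFc hC σ
  have hPl := isFinLocFree_sub k hX (kernel.ι σ) hP hF
  have hS : (ShortComplex.mk j (cokernel.π j) (cokernel.condition j)).ShortExact :=
    { exact := ShortComplex.exact_cokernel j }
  have hd := cdeg_add (k := k) (shortExact_ker σ) hP hFc hC
  have hd' := cdeg_add (k := k) hS hGc hQc hC
  have hg := grk_add (shortExact_ker σ) hFc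
  have hg' := grk_add hS hQc
  change cdeg k F = cdeg k (kernel σ) + cdeg k (cokernel j) at hd
  change cdeg k Q = cdeg k G + cdeg k (cokernel j) at hd'
  change grk F = grk (kernel σ) + grk (cokernel j) at hg
  change grk Q = grk G + grk (cokernel j) at hg'
  rw [grk_of_rank hF] at hg
  rw [grk_of_rank hQ, grk_of_rank hG] at hg'
  refine ⟨kernel σ, kernel.ι σ, grk (kernel σ), inferInstance, hPl, by omega, ?_⟩
  rw [deg_eq hPl, deg_eq hQ, deg_eq hF, deg_eq hG]
  omega

variable (k) in
include k in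
theorem isCoh_retract {A E : X.Modules} (hE : Coh.IsCoh E) (j : A ⟶ E) (q : E ⟶ A) (h : j ≫ q = 𝟙 A) :
    Coh.IsCoh A := by
  refine isCoh_of_iso ?_ (isCoh_kernel k hE hE (𝟙 E - q ≫ j))
  refine
    { hom := kernel.ι _ ≫ q
      inv := kernel.lift _ j (by rw [Preadditive.comp_sub, Category.comp_id, ← Category.assoc, h, Category.id_comp, sub_self])
      hom_inv_id := ?_
      inv_hom_id := by rw [← Category.assoc, kernel.lift_ι, h] }
  have hc := kernel.condition (𝟙 E - q ≫ j)
  rw [Preadditive.comp_sub, Category.comp_id, sub_eq_zero] at hc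
  rw [← cancel_mono (kernel.ι _), Category.assoc, kernel.lift_ι, Category.assoc, Category.id_comp]
  exact hc.symm

variable (k) in
/-- The biproduct short exact sequence: degrees and ranks. -/
theorem biprod_add (hX : RegCurve X) {E E₁ E₂ : X.Modules} {r : ℕ} (hE : FlatMod.IsFinLocFreeOfRank r E)
    (e : E ≅ E₁ ⊞ E₂) :
    ∃ (a b : ℕ), FlatMod.IsFinLocFreeOfRank a E₁ ∧ FlatMod.IsFinLocFreeOfRank b E₂ ∧ r = a + b ∧
      Curv2.deg k X E r = Curv2.deg k X E₁ a + Curv2.deg k X E₂ b := by
  haveI := isNoetherian_of_proper k X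
  have hEc := isCoh_of_rank hE
  let j₁ : E₁ ⟶ E := biprod.inl ≫ e.inv
  let j₂ : E₂ ⟶ E := biprod.inr ≫ e.inv
  have h₁ : Coh.IsCoh E₁ := isCoh_retract k hEc j₁ (e.hom ≫ biprod.fst) (by simp [j₁])
  have h₂ : Coh.IsCoh E₂ := isCoh_retract k hEc j₂ (e.hom ≫ biprod.snd) (by simp [j₂])
  haveI : Mono j₁ := mono_comp _ _
  haveI : Mono j₂ := mono_comp _ _
  have hl₁ := isFinLocFree_sub k hX j₁ h₁ hE
  have hl₂ := isFinLocFree_sub k hX j₂ h₂ hE
  let S : ShortComplex X.Modules := ShortComplex.mk j₁ (e.hom ≫ biprod.snd) (by simp [j₁])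
  let sp : S.Splitting :=
    { r := e.hom ≫ biprod.fst
      s := j₂
      f_r := by simp [S, j₁]
      s_g := by simp [S, j₂]
      id := by
        rw [← cancel_mono e.hom, ← cancel_epi e.inv]
        simp [S, j₁, j₂] }
  have hS := sp.shortExact
  have hg := grk_add hS hEc
  change grk E = grk E₁ + grk E₂ at hg
  rw [grk_of_rank hE] at hg
  exact ⟨grk E₁, grk E₂, hl₁, hl₂, hg, Easy.deg_add (k := k) S hS hl₁ hE hl₂ hg⟩

end Groth.Agent.W7Slope
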