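import Groth.Agent.W7Slope.Hom
import Groth.Agent.CohFinite.Tensor
import Groth.Agent.TMul.Frame
import Groth.Agent.ResDesc.Dual
import Groth.Agent.W7Hull.InvDual

/-!
# Twisting modules on curves by invertible modules
-/

set_option autoImplicit false
set_option linter.style.haveILetI false
set_option linter.unusedSectionVars false
set_option backward.isDefEq.respectTransparency false

universe u

open CategoryTheory CategoryTheory.Limits AlgebraicGeometry TopologicalSpace Opposite
open Groth.Agent.CurveRR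
open Groth.Agent.QC (res res_res res_smul)
open Groth.Agent.WeakAssLib (mgerm mgerm_res mgerm_smul)
open Groth.Agent.CohFinite (tmap tmap_comp tmap_zero)

noncomputable section

namespace Groth.Agent.W7Slope

/-- Sheafified whiskering is `tmap`. -/
theorem whisker_eq {X : Scheme.{u}} {F G : X.Modules} (φ : F ⟶ G) (L : X.Modules) :
    (CohB1.sheafifyMod X).map (MonoidalCategoryStruct.whiskerRight (C := CohB1.PMod X) φ.val (CohB1.toPMod L)) =
      tmap φ L := by
  refine TMul.hom_ext fun U m l => ?_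
  refine Eq.trans ?_ (CohFinite.tmap_tm φ L m l).symm
  have h := (PresheafOfModules.sheafificationAdjunction (𝟙 X.ringCatSheaf.obj)).unit.naturality
    (show (CohB1.tensorPre F L : X.PresheafOfModules) ⟶ CohB1.tensorPre G L from
      MonoidalCategoryStruct.whiskerRight (C := CohB1.PMod X) φ.val (CohB1.toPMod L))
  exact (congr($(h).app (op U) (TensorProduct.tmul _ m l))).symm

theorem mono_tmap {X : Scheme.{u}} {F G L : X.Modules} (hL : PicF.IsInvertible L) (φ : F ⟶ G) [Mono φ] :
    Mono (tmap φ L) :=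
  (CohFinite.shortExact_tmap hL (S := ShortComplex.mk φ (cokernel.π φ) (cokernel.condition φ))
    { exact := ShortComplex.exact_cokernel φ }).mono_f

theorem epi_tmap {X : Scheme.{u}} {F G L : X.Modules} (hL : PicF.IsInvertible L) (φ : F ⟶ G) [Epi φ] :
    Epi (tmap φ L) :=
  (CohFinite.shortExact_tmap hL (shortExact_ker φ)).epi_g

/-- A frame tensor a generator is a frame. -/
theorem isFrame_tm {X : Scheme.{u}} {G L : X.Modules} {n : ℕ} {U : X.Opens} {e : Fin n → Γ(G, U)}
    (he : TMul.IsFrame e) {l : Γ(L, U)} (hl : TMul.IsGen l) : TMul.IsFrame fun i => TMul.tm (e i) l := by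
  classical
  intro x hx
  have hcomb : ∀ (W : X.Opens) (hW : W ≤ U) (c : Fin n → Γ(X, W)),
      ∑ i, c i • res (CohB1.tensorMod G L) hW (TMul.tm (e i) l) =
        TMul.tm (∑ i, c i • res G hW (e i)) (res L hW l) := fun W hW c => by
    induction (Finset.univ : Finset (Fin n)) using Finset.induction_on with
    | empty => simp [TMul.zero_tm]
    | insert a s ha ih => rw [Finset.sum_insert ha, Finset.sum_insert ha, TMul.tm_add, ih, TMul.res_tm, TMul.smul_tm]
  refine ⟨?_, fun v => ?_⟩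
  · refine fun σ τ h => ?_
    have h0 : ∑ i, (σ i - τ i) • mgerm (CohB1.tensorMod G L) hx (TMul.tm (e i) l) = 0 := by
      simp only [sub_smul, Finset.sum_sub_distrib]
      exact sub_eq_zero.2 h
    choose W hxW c hc using fun i => X.presheaf.exists_germ_eq (x := x) (σ i - τ i)
    let W' : X.Opens := Finset.univ.inf W ⊓ U
    have hxW' : x ∈ W' := ⟨by
      have : x ∈ ((Finset.univ.inf W : X.Opens) : Set X) := by
        rw [Opens.coe_finset_inf, Finset.inf_set_eq_iInter, Set.mem_iInter₂]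
        exact fun i _ => hxW i
      exact this, hx⟩
    have hW'i : ∀ i, W' ≤ W i := fun i => inf_le_left.trans (Finset.inf_le (Finset.mem_univ i))
    have hgc : ∀ i, (X.presheaf.germ W' x hxW').hom (Groth.Agent.QC.resO X (hW'i i) (c i)) = σ i - τ i := fun i =>
      (TopCat.Presheaf.germ_res_apply X.presheaf _ x hxW' (c i)).trans (hc i)
    let c' : Fin n → Γ(X, W') := fun i => Groth.Agent.QC.resO X (hW'i i) (c i)
    have h1 : mgerm (CohB1.tensorMod G L) hxW'
        (TMul.tm (∑ i, c' i • res G (inf_le_right : W' ≤ U) (e i)) (res L (inf_le_right : W' ≤ U) l)) = 0 := by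
      rw [← hcomb, TMul.germ_comb]; simp only [c', hgc]; exact h0
    obtain ⟨W'', hxW'', i₁, i₂, heq⟩ := TopCat.Presheaf.germ_eq _ x hxW' hxW' _ 0 (h1.trans (map_zero _).symm)
    have heq' : res (CohB1.tensorMod G L) i₁.le
        (TMul.tm (∑ i, c' i • res G (inf_le_right : W' ≤ U) (e i)) (res L (inf_le_right : W' ≤ U) l)) = 0 :=
      heq.trans (map_zero _)
    rw [TMul.res_tm] at heq'
    have hz : res G i₁.le (∑ i, c' i • res G (inf_le_right : W' ≤ U) (e i)) = 0 :=
      (TMul.tm_bijective (M := G) (hl.res (inf_le_right : W' ≤ U)) W'' i₁.le).1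
        (heq'.trans (TMul.zero_tm _).symm)
    have hg : mgerm G hxW' (∑ i, c' i • res G (inf_le_right : W' ≤ U) (e i)) = 0 := by
      rw [← mgerm_res G i₁.le hxW'', hz, map_zero]
    rw [TMul.germ_comb] at hg
    simp only [c', hgc] at hg
    have hz' := (he x hx).1 (a₁ := fun i => σ i - τ i) (a₂ := 0) (hg.trans (by simp))
    funext i
    exact sub_eq_zero.1 (congrFun hz' i)
  · obtain ⟨W, hxW, s, rfl⟩ := (CohB1.tensorMod G L).presheaf.exists_germ_eq (x := x) v
    obtain ⟨m, hm⟩ := (TMul.tm_bijective (M := G) hl (W ⊓ U) inf_le_right).2 (res _ inf_le_left s)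
    obtain ⟨c, hc⟩ := he.comb_surjective (inf_le_right : W ⊓ U ≤ U) m
    refine ⟨fun i => (X.presheaf.germ (W ⊓ U) x ⟨hxW, hx⟩).hom (c i), ?_⟩
    refine (TMul.germ_comb inf_le_right ⟨hxW, hx⟩ c).symm.trans ?_
    rw [hcomb, hc]
    exact (congrArg (mgerm _ _) hm).trans (mgerm_res _ _ _ _)

theorem rank_of_frames {X : Scheme.{u}} [IsIntegral X] [IsLocallyNoetherian X] {N : X.Modules} {n : ℕ}
    (h : ∀ x : X, ∃ (U : X.Opens) (e : Fin n → Γ(N, U)), x ∈ U ∧ TMul.IsFrame e) :
    FlatMod.IsFinLocFreeOfRank n N := by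
  have hl : FlatMod.IsFinLocFree N :=
    ResDesc.isFinLocFree_of_frames fun x => let ⟨U, e, hx, he⟩ := h x; ⟨U, n, e, hx, he⟩
  have hr := rank_of_isFinLocFree (LocFree.isQCoh_of_isFinLocFree hl) hl
  obtain ⟨U, e, hx, he⟩ := h (genericPoint X)
  have : grk N = n := by
    let φ := Fintype.linearCombination (X.presheaf.stalk (genericPoint X)) fun i => mgerm N hx (e i)
    have hφ : Function.Bijective φ := by
      convert he _ hx using 1
      funext c
      exact Fintype.linearCombination_apply _ _ _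
    rw [grk, ← (LinearEquiv.ofBijective φ hφ).finrank_eq, Module.finrank_fin_fun]
  rwa [this] at hr

theorem rank_tensor_inv {X : Scheme.{u}} [IsIntegral X] [IsLocallyNoetherian X] {G L : X.Modules} {n : ℕ}
    (hG : FlatMod.IsFinLocFreeOfRank n G) (hL : PicF.IsInvertible L) :
    FlatMod.IsFinLocFreeOfRank n (CohB1.tensorMod G L) := rank_of_frames fun x => by
  obtain ⟨U, e, hxU, he⟩ := CurveRR.exists_frame hG x
  obtain ⟨V, l, hxV, hl⟩ := TMul.exists_isGen hL x
  refine ⟨U ⊓ V, fun i => TMul.tm (res G inf_le_left (e i)) (res L inf_le_right l), ⟨hxU, hxV⟩, ?_⟩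
  refine isFrame_tm (fun y hy => ?_) (hl.res _)
  simpa only [mgerm_res] using he y hy.1

section Untwist

variable {X : Scheme.{u}}

/-- Untwisting. -/
def untw {L L' : X.Modules} (e : CohB1.tensorMod L L' ≅ Coh.structureModule X) (M : X.Modules) :
    CohB1.tensorMod (CohB1.tensorMod M L) L' ≅ M :=
  TMul.assocIso M L L' ≪≫ TMul.commIso _ _ ≪≫
    { hom := tmap e.hom M, inv := tmap e.inv M,
      hom_inv_id := by rw [← tmap_comp, Iso.hom_inv_id, CohFinite.tmap_id],
      inv_hom_id := by rw [← tmap_comp, Iso.inv_hom_id, CohFinite.tmap_id] } ≪≫ TMul.leftUnitIso M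

/-- The pairing of a trivialisation of `L ⊗ L'`. -/
def ev {L L' : X.Modules} (e : CohB1.tensorMod L L' ≅ Coh.structureModule X) {U : X.Opens} (a : Γ(L, U))
    (b : Γ(L', U)) : Γ(X, U) :=
  e.hom.app U (TMul.tm a b)

theorem ev_smul {L L' : X.Modules} (e : CohB1.tensorMod L L' ≅ Coh.structureModule X) {U : X.Opens} (r : Γ(X, U))
    (a : Γ(L, U)) (b : Γ(L', U)) : ev e (r • a) b = r * ev e a b := by
  show e.hom.app U (TMul.tm (r • a) b) = _
  rw [TMul.smul_tm, TMul.app_smul]
  rfl

theorem untw_tm {L L' : X.Modules} (e : CohB1.tensorMod L L' ≅ Coh.structureModule X) (M : X.Modules)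
    {U : X.Opens} (m : Γ(M, U)) (a : Γ(L, U)) (b : Γ(L', U)) :
    (untw e M).hom.app U (TMul.tm (TMul.tm m a) b) = ev e a b • m := by
  show (TMul.leftUnitIso M).hom.app U ((tmap e.hom M).app U ((TMul.commHom _ _).app U
    ((TMul.assocHom M L L').app U (TMul.tm (TMul.tm m a) b)))) = _
  rw [TMul.assocHom_tm, TMul.commHom_tm, CohFinite.tmap_tm]
  exact leftUnitIso_tm M _ m

theorem untw_natural {L L' : X.Modules} (e : CohB1.tensorMod L L' ≅ Coh.structureModule X) {M N : X.Modules}
    (f : M ⟶ N) : tmap (tmap f L) L' ≫ (untw e N).hom = (untw e M).hom ≫ f :=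
  TMul.hom_ext₃ fun U m a b => by
    show (untw e N).hom.app U ((tmap (tmap f L) L').app U (TMul.tm (TMul.tm m a) b)) =
      f.app U ((untw e M).hom.app U (TMul.tm (TMul.tm m a) b))
    rw [CohFinite.tmap_tm, CohFinite.tmap_tm, untw_tm, untw_tm, TMul.app_smul]

/-- The two ways to cancel `L'` in `E ⊗ L ⊗ L' ⊗ L` agree. -/
theorem untw_coherence {L L' : X.Modules} (hL : PicF.IsInvertible L)
    (e : CohB1.tensorMod L L' ≅ Coh.structureModule X) (E : X.Modules) :
    tmap (untw e E).hom L = (untw (TMul.commIso L' L ≪≫ e) (CohB1.tensorMod E L)).hom :=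
  TMul.hom_ext₃ fun U s b l => by
    refine Groth.Agent.QC.section_eq_of_locally fun x hx => ?_
    obtain ⟨V, hV, p, hxV, hp⟩ := TMul.exists_tt s hx
    obtain ⟨W, hW, g, hxW, hg⟩ := CohFinite.exists_gen_le hL hxV
    refine ⟨W, hW.trans hV, hxW, ?_⟩
    rw [Groth.Agent.QC.app_res, Groth.Agent.QC.app_res, TMul.res_tm, TMul.res_tm, ← res_res _ hW hV s, ← hp,
      TMul.res_tt]
    generalize TMul.resT E L hW p = q
    clear hp
    generalize res L' (hW.trans hV) b = b'
    generalize res L (hW.trans hV) l = l'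
    induction q using TensorProduct.induction_on with
    | zero => simp [TMul.zero_tm]
    | add p q hp hq => rw [map_add, TMul.tm_add, TMul.tm_add, map_add, map_add, hp, hq]
    | tmul m a =>
      obtain ⟨a₀, ha⟩ := (hg W le_rfl).2 a
      obtain ⟨b₀, hb⟩ := (hg W le_rfl).2 l'
      have e' : ev (TMul.commIso L' L ≪≫ e) b' l' = ev e l' b' := by
        show e.hom.app W ((TMul.commHom L' L).app W (TMul.tm b' l')) = _
        rw [TMul.commHom_tm]
        rfl
      rw [TMul.tt_tmul, CohFinite.tmap_tm, untw_tm, untw_tm, e', ← ha, ← hb]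
      simp only [ev_smul, TMul.smul_tm, TMul.tm_smul, smul_smul]
      congr 1
      ring

end Untwist

variable {k : Type u} [Field k] {X : Scheme.{u}} [X.Over (Spec (CommRingCat.of k))]
  [IsProper (X ↘ Spec (CommRingCat.of k))] [IsIntegral X]

theorem deg_twist (hdim : topologicalKrullDim X ≤ 1) {G L : X.Modules} {n : ℕ}
    (hG : FlatMod.IsFinLocFreeOfRank n G) (hL : PicF.IsInvertible L) :
    Curv2.deg k X (CohB1.tensorMod G L) n = Curv2.deg k X G n + n * Curv2.deg k X L 1 := by
  have h := euler_tensor (k := k) hdim hG L (isCoh_of_inv hL)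
  rw [finrank_stalk_inv hL, Curv2.deg] at h
  simp only [Curv2.deg] at h ⊢
  rw [h]
  push_cast
  ring

variable (k) in
/-- Nonzero maps between semistable tuples increase the slope. -/
theorem slope_le_of_tuple_hom (hX : RegCurve X) {ι : Type*} (L : ι → X.Modules) (hL : ∀ i, PicF.IsInvertible (L i))
    {r s : ℕ} {E F : X.Modules} (hE : FlatMod.IsFinLocFreeOfRank r E) (hF : FlatMod.IsFinLocFreeOfRank s F)
    (φ : ∀ i, E ⟶ CohB1.tensorMod E (L i)) (ψ : ∀ i, F ⟶ CohB1.tensorMod F (L i))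
    (hEss : ∀ (G : X.Modules) (n : ℕ) (j : G ⟶ E), Mono j → 0 < n → FlatMod.IsFinLocFreeOfRank n G →
      (∀ i, ∃ χ : G ⟶ CohB1.tensorMod G (L i), χ ≫ tmap j (L i) = j ≫ φ i) →
      Curv2.deg k X G n * (r : ℤ) ≤ Curv2.deg k X E r * (n : ℤ))
    (hFss : ∀ (G : X.Modules) (n : ℕ) (j : G ⟶ F), Mono j → 0 < n → FlatMod.IsFinLocFreeOfRank n G →
      (∀ i, ∃ χ : G ⟶ CohB1.tensorMod G (L i), χ ≫ tmap j (L i) = j ≫ ψ i) →
      Curv2.deg k X G n * (s : ℤ) ≤ Curv2.deg k X F s * (n : ℤ))
    (f : E ⟶ F) (hf : ∀ i, f ≫ ψ i = φ i ≫ tmap f (L i)) (hne : f ≠ 0) :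
    Curv2.deg k X E r * (s : ℤ) ≤ Curv2.deg k X F s * (r : ℤ) := by
  obtain ⟨I, p, q, hp, hq, hfac, hI, hK, hr, -, hd, hpos⟩ := exists_image k hX hE hF f
  have ht : (0 : ℤ) < (grk I : ℤ) := by exact_mod_cast hpos hne
  have hKle : Curv2.deg k X (kernel f) (grk (kernel f)) * (r : ℤ) ≤ Curv2.deg k X E r * (grk (kernel f) : ℤ) := by
    rcases Nat.eq_zero_or_pos (grk (kernel f)) with h0 | h0
    · rw [h0] at hK ⊢
      simp [deg_rank_zero k hK]
    refine hEss _ _ (kernel.ι f) inferInstance h0 hK fun i => ?_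
    have hS := CohFinite.shortExact_tmap (hL i) (S := ShortComplex.mk (kernel.ι f) p
      (by rw [← cancel_mono q, Category.assoc, hfac, kernel.condition, zero_comp]))
      { exact := ShortComplex.exact_of_f_is_kernel _ (KernelFork.IsLimit.ofι' _ _ fun {W} g hg =>
          ⟨kernel.lift f g (by rw [← hfac, ← Category.assoc, show g ≫ p = 0 from hg, zero_comp]),
            kernel.lift_ι _ _ _⟩) }
    haveI := mono_tmap (hL i) q
    have hc : (kernel.ι f ≫ φ i) ≫ tmap p (L i) = 0 := by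
      rw [← cancel_mono (tmap q (L i)), Category.assoc, ← tmap_comp, hfac, Category.assoc, ← hf, ← Category.assoc,
        kernel.condition, zero_comp, zero_comp]
    haveI := hS.mono_f
    exact ⟨hS.exact.lift (kernel.ι f ≫ φ i) hc, hS.exact.lift_f _ hc⟩
  have hIle : Curv2.deg k X I (grk I) * (s : ℤ) ≤ Curv2.deg k X F s * (grk I : ℤ) := by
    refine hFss I _ q hq (hpos hne) hI fun i => ?_
    have hS := CohFinite.shortExact_tmap (hL i) (S := ShortComplex.mk q (cokernel.π q) (cokernel.condition q))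
      { exact := ShortComplex.exact_cokernel q }
    have hc : (q ≫ ψ i) ≫ tmap (cokernel.π q) (L i) = 0 := by
      rw [← cancel_epi p, ← Category.assoc, ← Category.assoc, hfac, hf, Category.assoc, ← tmap_comp, ← hfac,
        Category.assoc, cokernel.condition, comp_zero, tmap_zero, comp_zero, comp_zero]
    haveI := hS.mono_f
    exact ⟨hS.exact.lift (q ≫ ψ i) hc, hS.exact.lift_f _ hc⟩
  have hr' : (r : ℤ) = (grk (kernel f) : ℤ) + (grk I : ℤ) := by exact_mod_cast hr
  have h1 : Curv2.deg k X E r * (grk I : ℤ) ≤ Curv2.deg k X I (grk I) * (r : ℤ) := by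
    rw [hd, hr'] at hKle ⊢
    linarith
  refine le_of_mul_le_mul_right ?_ ht
  nlinarith [mul_le_mul_of_nonneg_right h1 (Int.natCast_nonneg s), mul_le_mul_of_nonneg_right hIle (Int.natCast_nonneg r)]

variable (k) in
/-- A semistable pair with nonzero map has twist of nonnegative degree. -/
theorem deg_nonneg_of_pair (hX : RegCurve X) {L : X.Modules} (hL : PicF.IsInvertible L) {r : ℕ} (hr : 0 < r)
    {E : X.Modules} (hE : FlatMod.IsFinLocFreeOfRank r E) (φ : E ⟶ CohB1.tensorMod E L)
    (hss : ∀ (G : X.Modules) (n : ℕ) (j : G ⟶ E) (χ : G ⟶ CohB1.tensorMod G L), Mono j → 0 < n →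
      FlatMod.IsFinLocFreeOfRank n G → χ ≫ tmap j L = j ≫ φ →
      Curv2.deg k X G n * (r : ℤ) ≤ Curv2.deg k X E r * (n : ℤ))
    (hφ : φ ≠ 0) : 0 ≤ Curv2.deg k X L 1 := by
  haveI := isNoetherian_of_proper k X
  obtain ⟨L', hL', ⟨e⟩⟩ := W7Hull.exists_tensor_inverse hL
  obtain ⟨I, p, q, hp, hq, hfac, hI, hK, hrk, -, hd, hpos⟩ := exists_image k hX hE (rank_tensor_inv hE hL) φ
  have hKle : Curv2.deg k X (kernel φ) (grk (kernel φ)) * (r : ℤ) ≤ Curv2.deg k X E r * (grk (kernel φ) : ℤ) := by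
    rcases Nat.eq_zero_or_pos (grk (kernel φ)) with h0 | h0
    · rw [h0] at hK ⊢
      simp [deg_rank_zero k hK]
    exact hss _ _ (kernel.ι φ) 0 inferInstance h0 hK (by rw [zero_comp, kernel.condition])
  let e' := TMul.commIso L' L ≪≫ e
  haveI := mono_tmap hL' q
  let j : CohB1.tensorMod I L' ⟶ E := tmap q L' ≫ (untw e E).hom
  haveI : Mono j := mono_comp _ _
  have hG := rank_tensor_inv hI hL'
  have hjL : tmap j L = (untw e' I).hom ≫ q := by
    rw [show tmap j L = tmap (tmap q L') L ≫ tmap (untw e E).hom L from tmap_comp _ _ L, untw_coherence hL e E,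
      untw_natural]
  have hjle : Curv2.deg k X (CohB1.tensorMod I L') (grk I) * (r : ℤ) ≤ Curv2.deg k X E r * (grk I : ℤ) :=
    hss _ _ j (j ≫ p ≫ (untw e' I).inv) inferInstance (hpos hφ) hG
      (by rw [hjL]; simp [Category.assoc, hfac])
  have hd2 : Curv2.deg k X I (grk I) = Curv2.deg k X (CohB1.tensorMod I L') (grk I) + grk I * Curv2.deg k X L 1 := by
    rw [← deg_twist (k := k) hX.dim hG hL]
    exact deg_iso (untw e' I).symm _
  have hr' : (r : ℤ) = (grk (kernel φ) : ℤ) + (grk I : ℤ) := by exact_mod_cast hrk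
  have hd' : Curv2.deg k X E r = Curv2.deg k X (kernel φ) (grk (kernel φ)) + Curv2.deg k X I (grk I) := hd
  have ht : (0 : ℤ) < (grk I : ℤ) := by exact_mod_cast hpos hφ
  have hrp : (0 : ℤ) < r := by exact_mod_cast hr
  have h1 : Curv2.deg k X E r * (grk I : ℤ) ≤ Curv2.deg k X I (grk I) * (r : ℤ) := by
    rw [hd', hr'] at hKle ⊢
    linarith
  by_contra hneg
  push Not at hneg
  rw [hd2] at h1
  nlinarith [mul_lt_mul_of_neg_left (mul_pos ht hrp) hneg]

end Groth.Agent.W7Slope
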