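import Groth.Agent.W7Slope.Hom

/-!
# Maximal destabilising submodules
-/

set_option autoImplicit false
set_option linter.style.haveILetI false
set_option linter.unusedSectionVars false
set_option backward.isDefEq.respectTransparency false

universe u

open CategoryTheory CategoryTheory.Limits AlgebraicGeometry TopologicalSpace Opposite
open Groth.Agent.CurveRR

noncomputable section

namespace Groth.Agent.W7Slope

variable {k : Type u} [Field k] {X : Scheme.{u}} [X.Over (Spec (CommRingCat.of k))]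
  [IsProper (X ↘ Spec (CommRingCat.of k))] [IsIntegral X]

variable (k) in
/-- A submodule of maximal slope, of maximal rank among those. -/
theorem exists_max_slope (hX : RegCurve X) {E : X.Modules} {r : ℕ} (hr : 0 < r)
    (hE : FlatMod.IsFinLocFreeOfRank r E) :
    ∃ (E₁ : X.Modules) (r₁ : ℕ) (i₁ : E₁ ⟶ E), Mono i₁ ∧ 0 < r₁ ∧ FlatMod.IsFinLocFreeOfRank r₁ E₁ ∧
      (∀ (G : X.Modules) (r' : ℕ) (j : G ⟶ E), Mono j → 0 < r' → FlatMod.IsFinLocFreeOfRank r' G →
        Curv2.deg k X G r' * (r₁ : ℤ) ≤ Curv2.deg k X E₁ r₁ * (r' : ℤ)) ∧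
      (∀ (G : X.Modules) (r' : ℕ) (j : G ⟶ E), Mono j → 0 < r' → FlatMod.IsFinLocFreeOfRank r' G →
        Curv2.deg k X G r' * (r₁ : ℤ) = Curv2.deg k X E₁ r₁ * (r' : ℤ) → r' ≤ r₁) := by
  haveI := isNoetherian_of_proper k X
  classical
  let P : ℕ → ℤ → Prop := fun n d => ∃ (G : X.Modules) (j : G ⟶ E), Mono j ∧
    FlatMod.IsFinLocFreeOfRank n G ∧ Curv2.deg k X G n = d
  have hbd : ∀ n, ∃ b : ℤ, ∀ d, P n d → d ≤ b := fun n =>
    ⟨(CurveRR.h k E 0 : ℤ) - n * Curv2.euler k X (Coh.structureModule X), fun d ⟨G, j, hj, hG, hd⟩ => by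
      have := cdeg_le_bound k hX.dim (isCoh_of_rank hE) j
      rw [grk_of_rank hG, ← deg_eq hG, hd] at this
      exact this⟩
  let R : Finset ℕ := (Finset.Icc 1 r).filter fun n => ∃ d, P n d
  have hmax : ∀ n ∈ R, ∃ d, P n d ∧ ∀ d', P n d' → d' ≤ d := fun n hn =>
    Int.exists_greatest_of_bdd (hbd n) (Finset.mem_filter.1 hn).2
  choose! D hD hD' using hmax
  have hrR : r ∈ R := Finset.mem_filter.2 ⟨Finset.mem_Icc.2 ⟨hr, le_rfl⟩, _, E, 𝟙 E, inferInstance, hE, rfl⟩
  obtain ⟨n₀, hn₀, hmax₀⟩ := R.exists_max_image (fun n => (D n : ℚ) / n) ⟨r, hrR⟩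
  obtain ⟨r₁, hr₁, hmax₁⟩ := (R.filter fun n => (D n : ℚ) / n = (D n₀ : ℚ) / n₀).exists_max_image id
    ⟨n₀, Finset.mem_filter.2 ⟨hn₀, rfl⟩⟩
  obtain ⟨hr₁R, hr₁eq⟩ := Finset.mem_filter.1 hr₁
  have hr₁pos : 0 < r₁ := (Finset.mem_Icc.1 (Finset.mem_filter.1 hr₁R).1).1
  obtain ⟨E₁, i₁, hi₁, hE₁, hdE₁⟩ := hD r₁ hr₁R
  have key : ∀ (G : X.Modules) (n : ℕ) (j : G ⟶ E), Mono j → 0 < n → FlatMod.IsFinLocFreeOfRank n G →
      n ∈ R ∧ Curv2.deg k X G n ≤ D n ∧ (D n : ℚ) * r₁ ≤ (D r₁ : ℚ) * n := by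
    intro G n j hj hn hG
    have hle := grk_le_of_mono k j (isCoh_of_rank hE)
    rw [grk_of_rank hG, grk_of_rank hE] at hle
    have hnR : n ∈ R := Finset.mem_filter.2 ⟨Finset.mem_Icc.2 ⟨hn, hle⟩, _, G, j, hj, hG, rfl⟩
    refine ⟨hnR, hD' n hnR _ ⟨G, j, hj, hG, rfl⟩, ?_⟩
    have h : (D n : ℚ) / n ≤ (D r₁ : ℚ) / r₁ := by rw [hr₁eq]; exact hmax₀ n hnR
    exact (div_le_div_iff₀ (by exact_mod_cast hn) (by exact_mod_cast hr₁pos)).1 h
  refine ⟨E₁, r₁, i₁, hi₁, hr₁pos, hE₁, fun G n j hj hn hG => ?_, fun G n j hj hn hG he => ?_⟩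
  · obtain ⟨-, h1, h2⟩ := key G n j hj hn hG
    rw [hdE₁]
    have h2' : D n * (r₁ : ℤ) ≤ D r₁ * (n : ℤ) := by exact_mod_cast h2
    exact (mul_le_mul_of_nonneg_right h1 (Int.natCast_nonneg r₁)).trans h2'
  obtain ⟨hnR, h1, h2⟩ := key G n j hj hn hG
  have h2' : D n * (r₁ : ℤ) ≤ D r₁ * (n : ℤ) := by exact_mod_cast h2
  rw [hdE₁] at he
  have h3 : D n * (r₁ : ℤ) = D r₁ * (n : ℤ) :=
    h2'.antisymm (he ▸ mul_le_mul_of_nonneg_right h1 (Int.natCast_nonneg r₁))
  refine hmax₁ n (Finset.mem_filter.2 ⟨hnR, ?_⟩)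
  rw [← hr₁eq, div_eq_div_iff (by exact_mod_cast hn.ne') (by exact_mod_cast hr₁pos.ne')]
  exact_mod_cast h3

variable (k) in
/-- The preimage of a submodule of a cokernel. -/
theorem exists_preimage_coker (hX : RegCurve X) {F I G : X.Modules} {s t n : ℕ}
    (hF : FlatMod.IsFinLocFreeOfRank s F) (hI : FlatMod.IsFinLocFreeOfRank t I) (i : I ⟶ F) [Mono i]
    (j : G ⟶ cokernel i) [Mono j] (hG : FlatMod.IsFinLocFreeOfRank n G) :
    ∃ (P : X.Modules) (ι : P ⟶ F), Mono ι ∧ FlatMod.IsFinLocFreeOfRank (t + n) P ∧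
      Curv2.deg k X P (t + n) = Curv2.deg k X I t + Curv2.deg k X G n := by
  haveI := isNoetherian_of_proper k X
  have hFc := isCoh_of_rank hF
  have hC := isCoh_cokernel k (isCoh_of_rank hI) hFc i
  have hC' := isCoh_cokernel k (isCoh_of_rank hG) hC j
  let σ := cokernel.π i ≫ cokernel.π j
  haveI : Epi σ := epi_comp _ _
  have hP := isCoh_kernel k hFc hC' σ
  have hPl := isFinLocFree_sub k hX (kernel.ι σ) hP hF
  have hSi : (ShortComplex.mk i (cokernel.π i) (cokernel.condition i)).ShortExact :=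
    { exact := ShortComplex.exact_cokernel i }
  have hSj : (ShortComplex.mk j (cokernel.π j) (cokernel.condition j)).ShortExact :=
    { exact := ShortComplex.exact_cokernel j }
  have d1 := cdeg_add (k := k) hSi (isCoh_of_rank hI) hFc hC
  have d2 := cdeg_add (k := k) hSj (isCoh_of_rank hG) hC hC'
  have d3 := cdeg_add (k := k) (shortExact_ker σ) hP hFc hC'
  have g1 := grk_add hSi hFc
  have g2 := grk_add hSj hC
  have g3 := grk_add (shortExact_ker σ) hFc
  change cdeg k F = cdeg k I + cdeg k (cokernel i) at d1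
  change cdeg k (cokernel i) = cdeg k G + cdeg k (cokernel j) at d2
  change cdeg k F = cdeg k (kernel σ) + cdeg k (cokernel j) at d3
  change grk F = grk I + grk (cokernel i) at g1
  change grk (cokernel i) = grk G + grk (cokernel j) at g2
  change grk F = grk (kernel σ) + grk (cokernel j) at g3
  rw [grk_of_rank hI] at g1
  rw [grk_of_rank hG] at g2
  rw [show grk (kernel σ) = t + n by omega] at hPl
  refine ⟨kernel σ, kernel.ι σ, inferInstance, hPl, ?_⟩
  rw [deg_eq hPl, deg_eq hI, deg_eq hG]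
  omega

variable (k) in
/-- The quotient by a submodule of maximal degree in its rank is locally free. -/
theorem isFinLocFree_coker_of_max (hX : RegCurve X) {F I : X.Modules} {s t : ℕ}
    (hF : FlatMod.IsFinLocFreeOfRank s F) (hI : FlatMod.IsFinLocFreeOfRank t I) (i : I ⟶ F) [Mono i]
    (hmax : ∀ (P : X.Modules) (ι : P ⟶ F), Mono ι → FlatMod.IsFinLocFreeOfRank t P →
      Curv2.deg k X P t ≤ Curv2.deg k X I t) :
    ∃ q : ℕ, FlatMod.IsFinLocFreeOfRank q (cokernel i) ∧ s = t + q ∧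
      Curv2.deg k X F s = Curv2.deg k X I t + Curv2.deg k X (cokernel i) q := by
  haveI := isNoetherian_of_proper k X
  have hFc := isCoh_of_rank hF
  have hC := isCoh_cokernel k (isCoh_of_rank hI) hFc i
  have hS : (ShortComplex.mk i (cokernel.π i) (cokernel.condition i)).ShortExact :=
    { exact := ShortComplex.exact_cokernel i }
  have hg := grk_add hS hFc
  change grk F = grk I + grk (cokernel i) at hg
  rw [grk_of_rank hF, grk_of_rank hI] at hg
  have hdC := cdeg_add (k := k) hS (isCoh_of_rank hI) hFc hC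
  change cdeg k F = cdeg k I + cdeg k (cokernel i) at hdC
  have hCl : FlatMod.IsFinLocFreeOfRank (grk (cokernel i)) (cokernel i) := by
    refine rank_of_isFinLocFree hC.1 ((exists_smaller_quotient k hX hC).resolve_right ?_)
    rintro ⟨C', q, hq, hC', hg', hlt⟩
    let σ := cokernel.π i ≫ q
    haveI : Epi σ := epi_comp _ _
    have hP := isCoh_kernel k hFc hC' σ
    have hPl := isFinLocFree_sub k hX (kernel.ι σ) hP hF
    have hgP := grk_add (shortExact_ker σ) hFc
    change grk F = grk (kernel σ) + grk C' at hgP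
    rw [grk_of_rank hF] at hgP
    have hdP := cdeg_add (k := k) (shortExact_ker σ) hP hFc hC'
    change cdeg k F = cdeg k (kernel σ) + cdeg k C' at hdP
    rw [show grk (kernel σ) = t by omega] at hPl
    have h5 := hmax _ (kernel.ι σ) inferInstance hPl
    rw [deg_eq hPl, deg_eq hI] at h5
    omega
  refine ⟨_, hCl, hg, ?_⟩
  rw [deg_eq hF, deg_eq hI, deg_eq hCl, hdC]

end Groth.Agent.W7Slope
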