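import Groth.Agent.CurveRR.Easy
import Groth.Agent.CurveRR.Tensor
import Groth.Agent.RegDual.Scheme
import Groth.Agent.KFlat.Pullback
import Groth.Agent.LocFree.SemiLocal
import Groth.Agent.SmLocalST.SmoothField

/-!
# Rank, degree and slopes of coherent modules on regular integral curves
-/

set_option autoImplicit false
set_option linter.style.haveILetI false
set_option linter.unusedSectionVars false
set_option backward.isDefEq.respectTransparency false

universe u

open CategoryTheory CategoryTheory.Limits AlgebraicGeometry TopologicalSpace Opposite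
open Groth.Agent.CurveRR
open Groth.Agent.WeakAssLib (mgerm)

noncomputable section

namespace Groth.Agent.W7Slope

section Gen

variable {X : Scheme.{u}} [IsIntegral X]

/-- The generic rank. -/
def grk (F : X.Modules) : ℕ :=
  Module.finrank (X.presheaf.stalk (genericPoint X)) (F.presheaf.stalk (genericPoint X))

theorem grk_add [IsLocallyNoetherian X] {S : ShortComplex X.Modules} (hS : S.ShortExact) (h₂ : Coh.IsCoh S.X₂) :
    grk S.X₂ = grk S.X₁ + grk S.X₃ := finrank_stalk_add hS h₂

theorem grk_iso {F G : X.Modules} (e : F ≅ G) : grk F = grk G :=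
  ((DerSch.stalkFunctor X (genericPoint X)).mapIso e).toLinearEquiv.finrank_eq

theorem grk_of_rank [IsLocallyNoetherian X] {n : ℕ} {F : X.Modules} (h : FlatMod.IsFinLocFreeOfRank n F) :
    grk F = n := by
  obtain ⟨W, hW, ⟨i⟩⟩ := h (genericPoint X)
  obtain ⟨b⟩ := LocFree.exists_basis_stalk i (isCoh_of_rank h).1 hW
  rw [grk, Module.finrank_eq_card_basis b, Fintype.card_ulift, Fintype.card_fin]

theorem rank_of_isFinLocFree [IsLocallyNoetherian X] {F : X.Modules} (hq : Coh.IsQCoh F)
    (h : FlatMod.IsFinLocFree F) : FlatMod.IsFinLocFreeOfRank (grk F) F := fun x => by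
  obtain ⟨W, n, hxW, ⟨i⟩⟩ := h x
  have hη : genericPoint X ∈ W := ((genericPoint_spec X).specializes (Set.mem_univ x)).mem_open W.2 hxW
  obtain ⟨b⟩ := LocFree.exists_basis_stalk i hq hη
  refine ⟨W, hxW, ?_⟩
  rw [show grk F = n from (Module.finrank_eq_card_basis b).trans (by rw [Fintype.card_ulift, Fintype.card_fin])]
  exact ⟨i⟩

theorem isPrincipalIdealRing_of_regular {R : Type u} [CommRing R] [IsDomain R] [IsRegularLocalRing R]
    (h : ringKrullDim R ≤ 1) : IsPrincipalIdealRing R := by
  by_cases hf : IsField R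
  · letI := hf.toField
    infer_instance
  · have hsp := (IsRegularLocalRing.spanFinrank_maximalIdeal (R := R))
    have h1 : ((IsLocalRing.maximalIdeal R).spanFinrank : WithBot ℕ∞) ≤ 1 := hsp.le.trans h
    have h1' : (IsLocalRing.maximalIdeal R).spanFinrank ≤ 1 := by exact_mod_cast h1
    have hp : (IsLocalRing.maximalIdeal R).IsPrincipal := by
      rcases Nat.lt_or_ge 0 (IsLocalRing.maximalIdeal R).spanFinrank with h2 | h2
      · exact ((Submodule.spanFinrank_eq_one_iff _).1 (by omega)).1
      · exfalso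
        refine hf (IsLocalRing.isField_iff_maximalIdeal_eq.2 ?_)
        exact (Submodule.spanFinrank_eq_zero_iff_eq_bot (IsNoetherian.noetherian _)).1 (by omega)
    haveI : IsDiscreteValuationRing R := ((IsDiscreteValuationRing.TFAE R hf).out 4 0 rfl rfl).1 hp
    infer_instance

/-- Coherent submodules of locally free modules on regular curves are locally free. -/
theorem isFinLocFree_of_mono [IsLocallyNoetherian X] (hdim : topologicalKrullDim X ≤ 1)
    (hreg : ∀ x : X, IsRegularLocalRing (X.presheaf.stalk x)) {F E : X.Modules} (j : F ⟶ E) [Mono j]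
    (hF : Coh.IsCoh F) (hE : FlatMod.IsFinLocFree E) : FlatMod.IsFinLocFree F := by
  refine RegDual.isFinLocFree_of_free_stalk hF fun x => ?_
  haveI := hreg x
  haveI := isPrincipalIdealRing_of_regular (R := X.presheaf.stalk x)
    ((RegDual.ringKrullDim_stalk_le_topologicalKrullDim x).trans hdim)
  obtain ⟨W, n, hxW, ⟨i⟩⟩ := hE x
  obtain ⟨b⟩ := LocFree.exists_basis_stalk i (LocFree.isQCoh_of_isFinLocFree hE) hxW
  haveI := RegDual.finite_stalk hF x
  let f : F.presheaf.stalk x →ₗ[X.presheaf.stalk x] E.presheaf.stalk x := ((DerSch.stalkFunctor X x).map j).hom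
  have hf : Function.Injective f := (ModuleCat.mono_iff_injective _).1
    (inferInstance : Mono ((DerSch.stalkFunctor X x).map j))
  obtain ⟨m, ⟨c⟩⟩ := (LinearMap.range f).nonempty_basis_of_pid b
  haveI : Module.Free (X.presheaf.stalk x) (LinearMap.range f) := Module.Free.of_basis c
  exact Module.Free.of_equiv (LinearEquiv.ofInjective f hf).symm

theorem isZero_of_rank_zero {F : X.Modules} [IsLocallyNoetherian X] (h : FlatMod.IsFinLocFreeOfRank 0 F) :
    IsZero F := by
  refine KFlat.isZero_of_stalks F fun x => ?_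
  obtain ⟨W, hxW, ⟨i⟩⟩ := h x
  obtain ⟨b⟩ := LocFree.exists_basis_stalk i (isCoh_of_rank h).1 hxW
  haveI : Subsingleton (F.presheaf.stalk x) := b.repr.toEquiv.subsingleton
  exact @ModuleCat.isZero_of_subsingleton _ _ _ ‹_›

theorem notMem_support_of_subsingleton {G : X.Modules} {η : X} (h : Subsingleton (G.presheaf.stalk η)) :
    η ∉ CohB1.support G := by
  rw [Groth.Agent.QC.notMem_support_iff]
  intro U hU s
  obtain ⟨W, hxW, i, i', hW⟩ := TopCat.Presheaf.germ_eq G.presheaf η hU hU s 0 (Subsingleton.elim _ _)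
  exact ⟨W, leOfHom i, hxW, hW.trans (map_zero _)⟩

end Gen

variable {k : Type u} [Field k] {X : Scheme.{u}} [X.Over (Spec (CommRingCat.of k))]
  [IsProper (X ↘ Spec (CommRingCat.of k))] [IsIntegral X]

variable (k) in
/-- The degree of a coherent module. -/
def cdeg (F : X.Modules) : ℤ := Curv2.euler k X F - grk F * Curv2.euler k X (Coh.structureModule X)

theorem deg_eq {n : ℕ} {F : X.Modules} (h : FlatMod.IsFinLocFreeOfRank n F) :
    Curv2.deg k X F n = cdeg k F := by
  haveI := isNoetherian_of_proper k X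
  rw [cdeg, Curv2.deg, grk_of_rank h]

theorem cdeg_iso {F G : X.Modules} (e : F ≅ G) : cdeg k F = cdeg k G := by
  rw [cdeg, cdeg, euler_eq_of_iso e, grk_iso e]

theorem cdeg_add {S : ShortComplex X.Modules} (hS : S.ShortExact) (h₁ : Coh.IsCoh S.X₁) (h₂ : Coh.IsCoh S.X₂)
    (h₃ : Coh.IsCoh S.X₃) : cdeg k S.X₂ = cdeg k S.X₁ + cdeg k S.X₃ := by
  haveI := isNoetherian_of_proper k X
  rw [cdeg, cdeg, cdeg, euler_add hS h₁ h₂ h₃, grk_add hS h₂]
  push_cast
  ring

theorem cdeg_torsion (hdim : topologicalKrullDim X ≤ 1) {Q : X.Modules} (hQ : Coh.IsCoh Q) (h : grk Q = 0) :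
    0 ≤ cdeg k Q ∧ (cdeg k Q = 0 → IsZero Q) := by
  haveI := isNoetherian_of_proper k X
  letI : Field (X.presheaf.stalk (genericPoint X)) := inferInstanceAs (Field X.functionField)
  haveI := RegDual.finite_stalk hQ (genericPoint X)
  have hcl := Groth.Agent.QC.isClosed_support hQ.2
  have hd := dim_le_zero_of_closed hdim hcl (notMem_support_of_subsingleton (Module.finrank_zero_iff.1 h))
  have hQ' : Curv2.euler k X Q = CurveRR.h k Q 0 := euler_eq_h0 fun i hi =>
    SuppZero.subsingleton_hh_of_supported hcl hd _ (fun _ hy => hy) i hi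
  rw [cdeg, h, hQ']
  refine ⟨by simp, fun he => ?_⟩
  haveI := Groth.Agent.CohFinite.finite_proper k X _ hQ 0
  haveI : Subsingleton (Coh.HH X Q 0) := Module.finrank_zero_iff.1 (by simpa [CurveRR.h] using he)
  exact isZero_of_h0 (k := k) hcl hd le_rfl (secH0 (k := k) Q).toEquiv.subsingleton

/-- Monomorphisms of equal rank increase the degree. -/
theorem cdeg_le_of_mono (hdim : topologicalKrullDim X ≤ 1) {F G : X.Modules} (j : F ⟶ G) [Mono j]
    (hF : Coh.IsCoh F) (hG : Coh.IsCoh G) (hr : grk F = grk G) :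
    cdeg k F ≤ cdeg k G ∧ (cdeg k F = cdeg k G → IsIso j) := by
  haveI := isNoetherian_of_proper k X
  have hC : Coh.IsCoh (cokernel j) := Groth.Agent.QC.isCoh_cokernel hF.1 hG j
  have hS : (ShortComplex.mk j (cokernel.π j) (cokernel.condition j)).ShortExact :=
    { exact := ShortComplex.exact_cokernel j }
  have h0 := grk_add hS hG
  have hd := cdeg_add (k := k) hS hF hG hC
  obtain ⟨hnn, hz⟩ := cdeg_torsion (k := k) hdim hC (by
    change grk G = grk F + grk (cokernel j) at h0; omega)
  change cdeg k G = cdeg k F + cdeg k (cokernel j) at hd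
  refine ⟨by omega, fun he => ?_⟩
  haveI : Epi j := Preadditive.epi_of_isZero_cokernel j (hz (by omega))
  exact isIso_of_mono_of_epi j

variable (X) in
/-- A regular integral curve, proper over `k`. -/
structure RegCurve : Prop where
  dim : topologicalKrullDim X ≤ 1
  reg : ∀ x : X, IsRegularLocalRing (X.presheaf.stalk x)

theorem regCurve_of_smooth [Smooth (X ↘ Spec (CommRingCat.of k))] (hdim : topologicalKrullDim X = 1) :
    RegCurve X :=
  ⟨hdim.le, SmLocalST.isRegularLocalRing_stalk_of_smooth_field (X ↘ Spec (CommRingCat.of k))⟩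

variable (k) in
include k in
theorem isFinLocFree_sub (hX : RegCurve X) {F E : X.Modules} (j : F ⟶ E) [Mono j] (hF : Coh.IsCoh F) {r : ℕ}
    (hE : FlatMod.IsFinLocFreeOfRank r E) : FlatMod.IsFinLocFreeOfRank (grk F) F := by
  haveI := isNoetherian_of_proper k X
  refine rank_of_isFinLocFree hF.1 (isFinLocFree_of_mono hX.dim hX.reg j hF fun x => ?_)
  obtain ⟨U, hx, e⟩ := hE x
  exact ⟨U, r, hx, e⟩

variable (k) in
include k in
theorem isCoh_kernel {E G : X.Modules} (hE : Coh.IsCoh E) (hG : Coh.IsCoh G) (φ : E ⟶ G) :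
    Coh.IsCoh (kernel φ) := by
  haveI := isNoetherian_of_proper k X
  exact Groth.Agent.QC.isCoh_kernel hE hG.1 φ

variable (k) in
include k in
theorem isCoh_cokernel {E G : X.Modules} (hE : Coh.IsCoh E) (hG : Coh.IsCoh G) (φ : E ⟶ G) :
    Coh.IsCoh (cokernel φ) := by
  haveI := isNoetherian_of_proper k X
  exact Groth.Agent.QC.isCoh_cokernel hE.1 hG φ

variable (k) in
include k in
theorem grk_le_of_mono {F E : X.Modules} (j : F ⟶ E) [Mono j] (hE : Coh.IsCoh E) : grk F ≤ grk E := by
  haveI := isNoetherian_of_proper k X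
  have h := grk_add (S := ShortComplex.mk j (cokernel.π j) (cokernel.condition j))
    { exact := ShortComplex.exact_cokernel j } hE
  change grk E = grk F + grk (cokernel j) at h
  omega

variable (k) in
/-- The image factorisation of a map of locally free modules. -/
theorem exists_image (hX : RegCurve X) {E G : X.Modules} {r s : ℕ} (hE : FlatMod.IsFinLocFreeOfRank r E)
    (hG : FlatMod.IsFinLocFreeOfRank s G) (φ : E ⟶ G) :
    ∃ (I : X.Modules) (p : E ⟶ I) (i : I ⟶ G), Epi p ∧ Mono i ∧ p ≫ i = φ ∧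
      FlatMod.IsFinLocFreeOfRank (grk I) I ∧ FlatMod.IsFinLocFreeOfRank (grk (kernel φ)) (kernel φ) ∧
      r = grk (kernel φ) + grk I ∧ grk I ≤ s ∧
      Curv2.deg k X E r = Curv2.deg k X (kernel φ) (grk (kernel φ)) + Curv2.deg k X I (grk I) ∧
      (φ ≠ 0 → 0 < grk I) := by
  haveI := isNoetherian_of_proper k X
  have hK := isFinLocFree_sub k hX (kernel.ι φ) (isCoh_kernel k (isCoh_of_rank hE) (isCoh_of_rank hG) φ) hE
  let p := Abelian.factorThruImage φ
  let i := Abelian.image.ι φ
  have hI : Coh.IsCoh (Abelian.image φ) :=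
    isCoh_kernel k (isCoh_of_rank hG) (isCoh_cokernel k (isCoh_of_rank hE) (isCoh_of_rank hG) φ) _
  have hIl := isFinLocFree_sub k hX i hI hG
  have hker : kernel.ι φ ≫ p = 0 := by
    rw [← cancel_mono i, Category.assoc, Abelian.image.fac, kernel.condition, zero_comp]
  have hS : (ShortComplex.mk (kernel.ι φ) p hker).ShortExact :=
    { exact := by
        refine ShortComplex.exact_of_f_is_kernel _ (KernelFork.IsLimit.ofι' _ _ fun {W} g hg => ?_)
        refine ⟨kernel.lift φ g ?_, kernel.lift_ι _ _ _⟩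
        rw [← Abelian.image.fac φ, ← Category.assoc, show g ≫ Abelian.factorThruImage φ = 0 from hg, zero_comp] }
  have hr := grk_add hS (isCoh_of_rank hE)
  rw [grk_of_rank hE] at hr
  refine ⟨Abelian.image φ, p, i, inferInstance, inferInstance, Abelian.image.fac φ, hIl, hK, hr, ?_, ?_, fun h => ?_⟩
  · exact (grk_le_of_mono k i (isCoh_of_rank hG)).trans_eq (grk_of_rank hG)
  · exact Easy.deg_add (k := k) _ hS hK hE hIl hr
  · by_contra h0
    rw [Nat.eq_zero_of_not_pos h0] at hIl
    exact h (by rw [← Abelian.image.fac φ, (isZero_of_rank_zero hIl).eq_of_src (Abelian.image.ι φ) 0, comp_zero])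

end Groth.Agent.W7Slope
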