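import Groth.Agent.W7Slope.Scalar
import Groth.Agent.W7Slope.Twist
import Groth.Agent.TMul.GlobGen
import Groth.Agent.CurveRR.Ample
import Groth.Agent.CurveRR.Point
import Groth.Agent.CurveRR.SmoothPt
import Mathlib.RingTheory.Nilpotent.Basic
import Mathlib.FieldTheory.Minpoly.Field

/-!
# Endomorphisms of indecomposable modules on curves over an algebraically closed field
-/

set_option autoImplicit false
set_option linter.style.haveILetI false
set_option linter.unusedSectionVars false
set_option backward.isDefEq.respectTransparency false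

universe u v

open CategoryTheory CategoryTheory.Limits AlgebraicGeometry TopologicalSpace Opposite
open Groth.Agent.CurveRR Groth.Agent.CohFinite
open Groth.Agent.QC (res res_self)

noncomputable section

namespace Groth.Agent.W7Slope

open Polynomial in
/-- In a finite algebra over an algebraically closed field without nontrivial idempotents every element is a
scalar plus a nilpotent. -/
theorem exists_sub_algebraMap_isNilpotent {k : Type u} [Field k] [IsAlgClosed k] {A : Type v} [Ring A]
    [Algebra k A] [Module.Finite k A] [Nontrivial A] (hid : ∀ e : A, e * e = e → e = 0 ∨ e = 1) (x : A) :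
    ∃ a : k, IsNilpotent (x - algebraMap k A a) := by
  have hint : IsIntegral k x := IsIntegral.of_finite k x
  set p := minpoly k x with hp
  obtain ⟨a, ha⟩ := IsAlgClosed.exists_root p (minpoly.degree_pos hint).ne'
  obtain ⟨q, hq, hndvd⟩ := exists_eq_pow_rootMultiplicity_mul_and_not_dvd p (minpoly.ne_zero hint) a
  set m := p.rootMultiplicity a with hm
  have hm0 : 0 < m := (rootMultiplicity_pos (minpoly.ne_zero hint)).2 ha
  have hcop : IsCoprime ((X - C a) ^ m) q :=
    ((irreducible_X_sub_C a).coprime_iff_not_dvd.2 hndvd).pow_left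
  obtain ⟨u, v, huv⟩ := hcop
  refine ⟨a, m, ?_⟩
  have hx : aeval x ((X - C a) ^ m) = (x - algebraMap k A a) ^ m := by simp
  have hee : aeval x (v * q) * aeval x (v * q) = aeval x (v * q) := by
    have h0 : aeval x (v * q * (1 - v * q)) = 0 := by
      rw [show v * q * (1 - v * q) = u * v * p from by rw [hq]; linear_combination (v * q) * huv.symm]
      rw [map_mul, minpoly.aeval, mul_zero]
    rw [map_mul, map_sub, map_one, mul_sub, mul_one, sub_eq_zero] at h0
    exact h0.symm
  rcases hid _ hee with h | h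
  · exfalso
    have hqx : aeval x q = 0 := by
      have h1 : aeval x (q * (u * (X - C a) ^ m + v * q)) = aeval x q := by rw [huv, mul_one]
      rw [← h1, show q * (u * (X - C a) ^ m + v * q) = u * p + q * (v * q) from by rw [hq]; ring, map_add, map_mul,
        map_mul, minpoly.aeval, mul_zero, h, mul_zero, add_zero]
    have hdvd := minpoly.dvd k x hqx
    have h2 : X - C a ∣ p := by
      rw [hq]
      exact Dvd.dvd.mul_right (dvd_pow_self _ hm0.ne') _
    exact hndvd (h2.trans hdvd)
  · rw [← hx]
    calc aeval x ((X - C a) ^ m) = aeval x ((X - C a) ^ m) * aeval x (v * q) := by rw [h, mul_one]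
      _ = aeval x (v * p) := by rw [← map_mul, hq]; congr 1; ring
      _ = 0 := by rw [map_mul, minpoly.aeval, mul_zero]

/-- ... hence at most one scalar shift is a nonunit. -/
theorem eq_of_not_isUnit {k : Type u} [Field k] [IsAlgClosed k] {A : Type v} [Ring A]
    [Algebra k A] [Module.Finite k A] [Nontrivial A] (hid : ∀ e : A, e * e = e → e = 0 ∨ e = 1) (x : A)
    (a b : k) (ha : ¬ IsUnit (x - algebraMap k A a)) (hb : ¬ IsUnit (x - algebraMap k A b)) : a = b := by
  obtain ⟨c, hc⟩ := exists_sub_algebraMap_isNilpotent (k := k) hid x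
  have key : ∀ d : k, d ≠ c → IsUnit (x - algebraMap k A d) := fun d hd => by
    rw [show x - algebraMap k A d = algebraMap k A (c - d) + (x - algebraMap k A c) from by rw [map_sub]; abel]
    exact hc.isUnit_add_left_of_commute ((IsUnit.mk0 _ (sub_ne_zero.2 hd.symm)).map _)
      (Algebra.commutes (c - d) _).symm
  have h1 : a = c := by
    by_contra h
    exact ha (key a h)
  have h2 : b = c := by
    by_contra h
    exact hb (key b h)
  rw [h1, h2]

/-- Trivial idempotents: of two elements with unit sum one is a unit. -/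
theorem isUnit_or_isUnit_of_add {k : Type u} [Field k] [IsAlgClosed k] {A : Type v} [Ring A]
    [Algebra k A] [Module.Finite k A] [Nontrivial A] (hid : ∀ e : A, e * e = e → e = 0 ∨ e = 1) (x y : A)
    (h : IsUnit (x + y)) : IsUnit x ∨ IsUnit y := by
  obtain ⟨w, hw⟩ := h
  obtain ⟨a, ha⟩ := exists_sub_algebraMap_isNilpotent (k := k) hid (x * ↑w⁻¹)
  by_cases h0 : a = 0
  · subst h0
    rw [map_zero, sub_zero] at ha
    have h1 : IsUnit (y * ↑w⁻¹) := by
      rw [show y * ↑w⁻¹ = 1 + -(x * ↑w⁻¹) from by
        rw [← sub_eq_add_neg, eq_sub_iff_add_eq, ← add_mul, add_comm y x, ← hw, Units.mul_inv]]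
      exact ha.neg.isUnit_add_left_of_commute isUnit_one (Commute.one_right _)
    exact Or.inr ((Units.isUnit_mul_units _ _).1 h1)
  · have h1 : IsUnit (x * ↑w⁻¹) := by
      rw [show x * ↑w⁻¹ = algebraMap k A a + (x * ↑w⁻¹ - algebraMap k A a) from by abel]
      exact ha.isUnit_add_left_of_commute ((IsUnit.mk0 _ h0).map _) (Algebra.commutes a _).symm
    exact Or.inl ((Units.isUnit_mul_units _ _).1 h1)

/-- An idempotent splits a module. -/
theorem nonempty_iso_biprod_of_idem {X : Scheme.{u}} {E : X.Modules} (e : E ⟶ E) (he : e ≫ e = e) :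
    Nonempty (E ≅ kernel (𝟙 E - e) ⊞ kernel e) :=
  ⟨{ hom := biprod.lift (kernel.lift _ e (by rw [Preadditive.comp_sub, Category.comp_id, he, sub_self]))
       (kernel.lift _ (𝟙 E - e) (by rw [Preadditive.sub_comp, Category.id_comp, he, sub_self]))
     inv := biprod.desc (kernel.ι _) (kernel.ι _)
     hom_inv_id := by
       rw [biprod.lift_desc, kernel.lift_ι, kernel.lift_ι, add_sub_cancel]
     inv_hom_id := by
       have h1 : kernel.ι (𝟙 E - e) ≫ e = kernel.ι (𝟙 E - e) := by
         have := kernel.condition (𝟙 E - e)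
         rw [Preadditive.comp_sub, Category.comp_id, sub_eq_zero] at this
         exact this.symm
       have h2 := kernel.condition e
       refine biprod.hom_ext' _ _ (biprod.hom_ext _ _ ?_ ?_) (biprod.hom_ext _ _ ?_ ?_) <;>
         · rw [← cancel_mono (kernel.ι _)]
           simp [h1, h2, Preadditive.comp_sub] }⟩

theorem hom_ext' {X : Scheme.{u}} {M N : X.Modules} {f g : M ⟶ N}
    (H : ∀ (U : X.Opens) (m : Γ(M, U)), f.app U m = g.app U m) : f = g :=
  Scheme.Modules.hom_ext _ _ fun U => AddCommGrpCat.hom_ext (AddMonoidHom.ext (H U))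

theorem tmap_scal {X : Scheme.{u}} (E L : X.Modules) (r : Γ(X, ⊤)) :
    tmap (scal E r) L = scal (CohB1.tensorMod E L) r :=
  TMul.hom_ext fun U m l => (tmap_tm _ _ m l).trans (TMul.smul_tm (Coh.resTop X (op U) r) m l)

variable {k : Type u} [Field k] {X : Scheme.{u}} [X.Over (Spec (CommRingCat.of k))]

variable (k) in
/-- Scalars in the endomorphism ring. -/
def scalHom (E : X.Modules) : k →+* End E where
  toFun a := scal E (Coh.toGlobal (X ↘ Spec (CommRingCat.of k)) a)
  map_one' := hom_ext' fun U m => by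
    show (show Γ(X, U) from Coh.resTop X (op U) (Coh.toGlobal _ 1)) • m = m
    rw [map_one, map_one, one_smul]
  map_mul' a b := hom_ext' fun U m => by
    show (show Γ(X, U) from Coh.resTop X (op U) (Coh.toGlobal _ (a * b))) • m =
      (show Γ(X, U) from Coh.resTop X (op U) (Coh.toGlobal _ a)) • (show Γ(X, U) from Coh.resTop X (op U) (Coh.toGlobal _ b)) • m
    rw [map_mul, map_mul, mul_smul]
  map_zero' := hom_ext' fun U m => by
    show (show Γ(X, U) from Coh.resTop X (op U) (Coh.toGlobal _ 0)) • m = 0
    rw [map_zero, map_zero, zero_smul]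
  map_add' a b := hom_ext' fun U m => by
    show (show Γ(X, U) from Coh.resTop X (op U) (Coh.toGlobal _ (a + b))) • m =
      (show Γ(X, U) from Coh.resTop X (op U) (Coh.toGlobal _ a)) • m + (show Γ(X, U) from Coh.resTop X (op U) (Coh.toGlobal _ b)) • m
    rw [map_add, map_add, add_smul]

variable (k) in
/-- The endomorphism algebra. -/
@[implicit_reducible]
def endAlgebra (E : X.Modules) : Algebra k (End E) :=
  (scalHom k E).toAlgebra' fun a φ => hom_ext' fun U m => (TMul.app_smul φ _ m).symm

variable [IsProper (X ↘ Spec (CommRingCat.of k))] [IsIntegral X]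

/-- An ample invertible module on a curve over an algebraically closed field. -/
theorem exists_ample [IsAlgClosed k] (hdim : topologicalKrullDim X = 1) (hX : RegCurve X) :
    ∃ L : X.Modules, CohB1.IsAmple L := by
  haveI := isNoetherian_of_proper k X
  haveI : JacobsonSpace X := LocallyOfFiniteType.jacobsonSpace (X ↘ Spec (CommRingCat.of k))
  obtain ⟨P, -, hP⟩ := nonempty_inter_closedPoints (Z := (Set.univ : Set X))
    ⟨genericPoint X, trivial⟩ isClosed_univ.isLocallyClosed
  have hI := isInvertible_pointIdeal hX.dim hP (genericPoint_ne_of_closed (k := k) hdim hP) (hX.reg P)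
  obtain ⟨L, hL, ⟨e⟩⟩ := W7Hull.exists_tensor_inverse hI
  refine ⟨L, isAmple_of_deg_pos (k := k) hdim hL ?_⟩
  have h := euler_ideal_tensor (k := k) (TMul.isInvertible_structureModule (X := X))
    (Scheme.IdealSheafData.vanishingIdeal ⟨{P}, hP⟩) (point_dim hP)
  rw [euler_eq_of_iso (TMul.commIso _ _), euler_eq_of_iso (TMul.leftUnitIso _), h0_quotMod_point hP] at h
  have hd := deg_twist (k := k) hX.dim (isFinLocFreeOfRank_one hI) hL
  rw [deg_iso (k := k) e, deg_structure] at hd
  have hdI : Curv2.deg k X (ClSub.idealMod (Scheme.IdealSheafData.vanishingIdeal ⟨{P}, hP⟩)) 1 = -1 := by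
    rw [Curv2.deg, h]
    push_cast
    ring
  rw [hdI] at hd
  push_cast at hd
  omega

/-- Endomorphisms of coherent modules form a finite algebra. -/
theorem finite_end [IsAlgClosed k] (hdim : topologicalKrullDim X = 1) (hX : RegCurve X) {E : X.Modules}
    (hE : Coh.IsCoh E) : letI := endAlgebra k E; Module.Finite k (End E) := by
  letI := endAlgebra k E
  haveI := isNoetherian_of_proper k X
  obtain ⟨L, hLa⟩ := exists_ample (k := k) hdim hX
  haveI : E.IsQuasicoherent := hE.1
  obtain ⟨n, hn⟩ := TMul.eventually_isGloballyGenerated hLa (F := E) hE.2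
  have hP := TMul.isInvertible_tensorPow hLa.1 n
  obtain ⟨ι, p, hp⟩ := hn n le_rfl
  haveI := finite_proper k X (CohB1.tensorMod E (CohB1.tensorPow L n)) (isCoh_tensor hE hP) 0
  letI := secMod k (CohB1.tensorMod E (CohB1.tensorPow L n)) ⊤
  haveI : Module.Finite k Γ(CohB1.tensorMod E (CohB1.tensorPow L n), ⊤) :=
    Module.Finite.equiv (secH0 (k := k) _).symm
  let v : End E →ₗ[k] Γ(CohB1.tensorMod E (CohB1.tensorPow L n), ⊤) →ₗ[k]
      Γ(CohB1.tensorMod E (CohB1.tensorPow L n), ⊤) :=
    { toFun := fun ψ =>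
        { toFun := fun t => (tmap (ψ : E ⟶ E) (CohB1.tensorPow L n)).app ⊤ t
          map_add' := map_add _
          map_smul' := fun a t => TMul.app_smul _ (cst k X ⊤ a) t }
      map_add' := fun φ ψ => LinearMap.ext fun t => by
        show (tmap ((φ : E ⟶ E) + ψ) _).app ⊤ t = (tmap (φ : E ⟶ E) _).app ⊤ t + (tmap (ψ : E ⟶ E) _).app ⊤ t
        rw [tmap_add]
        rfl
      map_smul' := fun a ψ => LinearMap.ext fun t => by
        show (tmap ((ψ : E ⟶ E) ≫ scal E (Coh.toGlobal _ a)) _).app ⊤ t =
          cst k X ⊤ a • (tmap (ψ : E ⟶ E) _).app ⊤ t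
        rw [tmap_comp, tmap_scal]
        rfl }
  refine Module.Finite.of_injective v ((injective_iff_map_eq_zero v).2 fun ψ hψ => ?_)
  obtain ⟨L', -, ⟨e⟩⟩ := W7Hull.exists_tensor_inverse hP
  have h0 : p ≫ tmap (ψ : E ⟶ E) (CohB1.tensorPow L n) = 0 := by
    refine Sigma.hom_ext _ _ fun i => ?_
    rw [comp_zero]
    refine TMul.hom_ext_val ?_
    show (tmap (ψ : E ⟶ E) (CohB1.tensorPow L n)).app ⊤
      ((show Coh.structureModule X ⟶ CohB1.tensorMod E (CohB1.tensorPow L n) from
        Sigma.ι (fun _ : ι => SheafOfModules.unit X.ringCatSheaf) i ≫ p).app ⊤ (1 : Γ(X, ⊤))) = 0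
    exact LinearMap.congr_fun hψ _
  have h2 := (cancel_epi p).1 (h0.trans comp_zero.symm)
  show (ψ : E ⟶ E) = 0
  have h3 := untw_natural e (ψ : E ⟶ E)
  rw [h2, tmap_zero, zero_comp] at h3
  exact (cancel_epi (untw e E).hom).1 (h3.symm.trans comp_zero.symm)

end Groth.Agent.W7Slope
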