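import Groth.Agent.W7Slope.Basic
import Groth.Agent.SuppZero.Basic
import Groth.Agent.TMul.Ample

/-!
# Saturation of subsheaves on regular integral curves
-/

set_option autoImplicit false
set_option linter.style.haveILetI false
set_option linter.unusedSectionVars false
set_option backward.isDefEq.respectTransparency false

universe u

open CategoryTheory CategoryTheory.Limits AlgebraicGeometry TopologicalSpace Opposite
open Groth.Agent.CurveRR
open Groth.Agent.QC (res res_res section_eq_of_locally)
open Groth.Agent.WeakAssLib (mgerm mgerm_res stalkHom stalkHom_germ)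

noncomputable section

namespace Groth.Agent.W7Slope

variable {k : Type u} [Field k] {X : Scheme.{u}} [X.Over (Spec (CommRingCat.of k))]
  [IsProper (X ↘ Spec (CommRingCat.of k))] [IsIntegral X]

variable (k) in
include k in
theorem exists_global_of_germ (hdim : topologicalKrullDim X ≤ 1) {C : X.Modules} {U : X.Opens} {x : X} (hx : x ∈ U)
    (hη : genericPoint X ∈ U) (s : Γ(C, U)) (h0 : mgerm C hη s = 0) (hs : mgerm C hx s ≠ 0) :
    ∃ σ : Γ(C, ⊤), mgerm C (Opens.mem_top x) σ = mgerm C hx s ∧
      mgerm C (Opens.mem_top (genericPoint X)) σ = 0 := by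
  haveI := isNoetherian_of_proper k X
  let Z : Set X := {y | ∃ hy : y ∈ U, mgerm C hy s ≠ 0}
  have hcl : closure Z ∩ (U : Set X) ⊆ Z := by
    rintro y ⟨hy, hyU⟩
    refine ⟨hyU, fun he => ?_⟩
    obtain ⟨W, hyW, i, i', e⟩ := TopCat.Presheaf.germ_eq C.presheaf y hyU hyU s 0 (he.trans (map_zero _).symm)
    obtain ⟨z, hzW, hzU, hz⟩ := mem_closure_iff.1 hy W W.2 hyW
    refine hz ?_
    have h := (mgerm_res C (leOfHom i) hzW s).symm.trans (congrArg (mgerm C hzW) (e.trans (map_zero _)))
    rwa [map_zero] at h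
  have hgen : genericPoint X ∉ closure Z := fun h => (hcl ⟨h, hη⟩).2 h0
  have hd := dim_le_zero_of_closed hdim isClosed_closure hgen
  have hcx : IsClosed ({x} : Set X) :=
    SuppZero.isClosed_of_subset isClosed_closure hd _ (Set.singleton_subset_iff.2 (subset_closure ⟨hx, hs⟩))
  have hc' : IsClosed (closure Z \ {x}) := SuppZero.isClosed_of_subset isClosed_closure hd _ Set.diff_subset
  let U' : X.Opens := U ⊓ ⟨(closure Z \ {x})ᶜ, hc'.isOpen_compl⟩
  let V : Bool → X.Opens := fun b => bif b then U' else ⟨{x}ᶜ, hcx.isOpen_compl⟩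
  let f : ∀ b, Γ(C, V b) := fun b => match b with
    | true => res C (inf_le_left : U' ≤ U) s
    | false => 0
  have hz : ∀ (P : X.Opens) (h1 : P ≤ V true), P ≤ V false → res C h1 (f true) = 0 := fun P h1 h2 => by
    refine section_eq_of_locally fun y hy => ?_
    have hyZ : y ∉ Z := fun h => (h1 hy).2 ⟨subset_closure h, h2 hy⟩
    have hyU : y ∈ U := (h1 hy).1
    obtain ⟨W, hyW, i, i', e⟩ := TopCat.Presheaf.germ_eq C.presheaf y hyU hyU s 0
      (show mgerm C hyU s = mgerm C hyU 0 from
        (not_not.1 fun h => hyZ ⟨hyU, h⟩ : mgerm C hyU s = 0).trans (map_zero _).symm)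
    refine ⟨P ⊓ W, inf_le_left, ⟨hy, hyW⟩, ?_⟩
    show res C _ (res C h1 (res C inf_le_left s)) = res C _ 0
    rw [map_zero]
    refine ((res_res C _ _ _).trans (res_res C _ _ _)).trans ?_
    refine (res_res C (inf_le_right : P ⊓ W ≤ W) (leOfHom i) s).symm.trans ?_
    exact (congrArg (res C _) (e.trans (map_zero _))).trans (map_zero _)
  obtain ⟨σ, hσ, -⟩ := TopCat.Sheaf.existsUnique_gluing' (Groth.Agent.QC.abSheaf C) V ⊤
    (fun b => homOfLE le_top) (fun y _ => Opens.mem_iSup.mpr (by
      by_cases hy : y = x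
      · subst hy; exact ⟨true, hx, fun h => h.2 rfl⟩
      · exact ⟨false, hy⟩)) f (by
      intro b b'
      suffices key : ∀ (P : X.Opens) (h1 : P ≤ V b) (h2 : P ≤ V b'), res C h1 (f b) = res C h2 (f b') from
        key _ inf_le_left inf_le_right
      intro P h1 h2
      rcases b with _ | _ <;> rcases b' with _ | _
      · rfl
      · exact (map_zero _).trans (hz P h2 h1).symm
      · exact (hz P h1 h2).trans (map_zero _).symm
      · rfl)
  refine ⟨σ, ?_, ?_⟩
  · have hxU' : x ∈ V true := ⟨hx, fun h => h.2 rfl⟩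
    rw [← mgerm_res C (le_top : V true ≤ ⊤) hxU' σ, show res C le_top σ = f true from hσ true]
    exact mgerm_res C _ hxU' s
  · have hne : genericPoint X ∈ V false := fun h => hgen (by
      rw [show genericPoint X = x from h]; exact subset_closure ⟨hx, hs⟩)
    rw [← mgerm_res C (le_top : V false ≤ ⊤) hne σ, show res C le_top σ = f false from hσ false]
    exact map_zero _

variable (k) in
/-- A coherent module which is no extension of a torsion module by a module of smaller degree is locally free. -/
theorem exists_smaller_quotient (hX : RegCurve X) {C : X.Modules} (hC : Coh.IsCoh C) :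
    FlatMod.IsFinLocFree C ∨ ∃ (C' : X.Modules) (q : C ⟶ C'),
      Epi q ∧ Coh.IsCoh C' ∧ grk C' = grk C ∧ cdeg k C' < cdeg k C := by
  haveI := isNoetherian_of_proper k X
  refine or_iff_not_imp_left.2 fun hnot => ?_
  obtain ⟨x, hx⟩ : ∃ x : X, ¬ Module.Free (X.presheaf.stalk x) (C.presheaf.stalk x) := by
    by_contra h
    push Not at h
    exact hnot (RegDual.isFinLocFree_of_free_stalk hC h)
  haveI := hX.reg x
  haveI := isPrincipalIdealRing_of_regular (R := X.presheaf.stalk x)
    ((RegDual.ringKrullDim_stalk_le_topologicalKrullDim x).trans hX.dim)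
  haveI := RegDual.finite_stalk hC x
  obtain ⟨a, t, ha, ht, hat⟩ : ∃ (a : X.presheaf.stalk x) (t : C.presheaf.stalk x), a ≠ 0 ∧ t ≠ 0 ∧ a • t = 0 := by
    by_contra h
    push Not at h
    haveI : Module.IsTorsionFree (X.presheaf.stalk x) (C.presheaf.stalk x) :=
      Module.IsTorsionFree.of_smul_eq_zero fun a t he => by
        by_contra hh
        push Not at hh
        exact h a t hh.1 hh.2 he
    exact hx Module.free_of_finite_type_torsion_free'
  obtain ⟨U, hxU, s, rfl⟩ := C.presheaf.exists_germ_eq (x := x) t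
  obtain ⟨V, hxV, b, rfl⟩ := X.presheaf.exists_germ_eq (x := x) a
  have hspec : genericPoint X ⤳ x := (genericPoint_spec X).specializes (Set.mem_univ x)
  have hη : genericPoint X ∈ U := hspec.mem_open U.2 hxU
  let W := U ⊓ V
  have hxW : x ∈ W := ⟨hxU, hxV⟩
  have e1 : mgerm C hxW (Groth.Agent.QC.resO X (inf_le_right : W ≤ V) b • res C (inf_le_left : W ≤ U) s) = 0 := by
    rw [WeakAssLib.mgerm_smul, mgerm_res]
    exact (congrArg (· • mgerm C hxU s) (X.presheaf.germ_res_apply _ x hxW b)).trans hat
  obtain ⟨O, hxO, i, i', e⟩ := TopCat.Presheaf.germ_eq C.presheaf x hxW hxW _ 0 (e1.trans (map_zero _).symm)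
  have hηO : genericPoint X ∈ O := hspec.mem_open O.2 hxO
  have hηW : genericPoint X ∈ W := leOfHom i hηO
  have e2 : mgerm C hηW (Groth.Agent.QC.resO X (inf_le_right : W ≤ V) b • res C (inf_le_left : W ≤ U) s) = 0 := by
    rw [← mgerm_res C (leOfHom i) hηO]
    exact (congrArg (mgerm C hηO) (e.trans (map_zero _))).trans (map_zero _)
  rw [WeakAssLib.mgerm_smul, mgerm_res] at e2
  letI : Field (X.presheaf.stalk (genericPoint X)) := inferInstanceAs (Field X.functionField)
  have hb : (X.presheaf.germ W (genericPoint X) hηW).hom (Groth.Agent.QC.resO X (inf_le_right : W ≤ V) b) ≠ 0 := by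
    intro h0
    apply ha
    haveI : Nonempty W := ⟨⟨x, hxW⟩⟩
    have := germ_injective_of_isIntegral X (genericPoint X) hηW (h0.trans (map_zero _).symm)
    exact (X.presheaf.germ_res_apply (homOfLE (inf_le_right : W ≤ V)) x hxW b).symm.trans
      ((congrArg _ this).trans (map_zero _))
  obtain ⟨σ, hσx, hση⟩ := exists_global_of_germ k hX.dim hxU hη s ((smul_eq_zero.1 e2).resolve_left hb) ht
  have hO : Coh.IsCoh (Coh.structureModule X) := isCoh_of_inv (fun x => TMul.isInvertible_structureModule x)
  let φ := TMul.homOf σ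
  have hI : Coh.IsCoh (Abelian.image φ) := isCoh_kernel k hC (isCoh_cokernel k hO hC φ) _
  have hC' := isCoh_cokernel k hO hC φ
  have hS : (ShortComplex.mk (Abelian.image.ι φ) (cokernel.π φ) (kernel.condition _)).ShortExact :=
    { exact := ShortComplex.exact_kernel _ }
  have hval : ∀ W' : X.Opens, φ.app W' (1 : Γ(X, W')) = res C le_top σ := fun W' => TMul.val_homOf σ W'
  have hr : grk (Abelian.image φ) = 0 := by
    haveI := RegDual.finite_stalk hI (genericPoint X)
    refine Module.finrank_zero_iff.2 ⟨fun u v => ?_⟩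
    suffices ∀ u : (Abelian.image φ).presheaf.stalk (genericPoint X), u = 0 from (this u).trans (this v).symm
    intro u
    obtain ⟨w, rfl⟩ := (ModuleCat.epi_iff_surjective _).1
      (inferInstance : Epi ((DerSch.stalkFunctor X (genericPoint X)).map (Abelian.factorThruImage φ))) u
    apply (ModuleCat.mono_iff_injective _).1
      (inferInstance : Mono ((DerSch.stalkFunctor X (genericPoint X)).map (Abelian.image.ι φ)))
    refine Eq.trans ?_ (map_zero _).symm
    obtain ⟨W', hW', c, rfl⟩ := (Coh.structureModule X).presheaf.exists_germ_eq (x := genericPoint X) w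
    show stalkHom (Abelian.image.ι φ) _ (stalkHom (Abelian.factorThruImage φ) _ (mgerm _ hW' c)) = 0
    rw [stalkHom_germ, stalkHom_germ,
      show (Abelian.image.ι φ).app W' ((Abelian.factorThruImage φ).app W' c) =
        (Abelian.factorThruImage φ ≫ Abelian.image.ι φ).app W' c from rfl, Abelian.image.fac,
      show c = (show Γ(X, W') from c) • (show Γ(Coh.structureModule X, W') from (1 : Γ(X, W'))) from (mul_one (show Γ(X, W') from c)).symm]
    erw [φ.app_smul]
    rw [hval, WeakAssLib.mgerm_smul, mgerm_res]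
    erw [hση]
    rw [smul_zero]
  have hne : ¬ IsZero (Abelian.image φ) := fun hz => by
    apply ht
    have h0 : φ = 0 := by rw [← Abelian.image.fac φ, hz.eq_of_tgt (Abelian.factorThruImage φ) 0, zero_comp]
    have h1 := hval ⊤
    rw [h0] at h1
    rw [← hσx, ← mgerm_res C (le_top : (⊤ : X.Opens) ≤ ⊤) (Opens.mem_top x) σ, ← h1]
    exact map_zero _
  obtain ⟨h1, h2⟩ := cdeg_torsion (k := k) hX.dim hI hr
  have hd := cdeg_add (k := k) hS hI hC hC'
  have hg := grk_add hS hC
  change cdeg k C = cdeg k (Abelian.image φ) + cdeg k (cokernel φ) at hd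
  change grk C = grk (Abelian.image φ) + grk (cokernel φ) at hg
  refine ⟨cokernel φ, cokernel.π φ, inferInstance, hC', by omega, ?_⟩
  rcases h1.lt_or_eq with h | h
  · omega
  · exact absurd (h2 h.symm) hne

variable (k) in
/-- Degrees of subsheaves of fixed rank are bounded above. -/
theorem cdeg_le_bound (hdim : topologicalKrullDim X ≤ 1) {E F : X.Modules} (hE : Coh.IsCoh E)
    (j : F ⟶ E) [Mono j] :
    cdeg k F ≤ (CurveRR.h k E 0 : ℤ) - grk F * Curv2.euler k X (Coh.structureModule X) := by
  haveI := isNoetherian_of_proper k X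
  haveI := Groth.Agent.CohFinite.finite_proper k X E hE 0
  have hS : (ShortComplex.mk j (cokernel.π j) (cokernel.condition j)).ShortExact :=
    { exact := ShortComplex.exact_cokernel j }
  have h : CurveRR.h k F 0 ≤ CurveRR.h k E 0 :=
    LinearMap.finrank_le_finrank_of_injective (injective_f (k := k) hS)
  rw [cdeg, euler_eq hdim F]
  omega

variable (k) in
/-- Saturation: a subsheaf lies in one of the same rank, no smaller degree, and locally free quotient. -/
theorem exists_saturation (hX : RegCurve X) {G E : X.Modules} {r : ℕ} (hE : FlatMod.IsFinLocFreeOfRank r E)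
    (hG : Coh.IsCoh G) (j : G ⟶ E) [Mono j] :
    ∃ (G' Q : X.Modules) (i : G' ⟶ E) (l : G ⟶ G') (p : E ⟶ Q) (w : i ≫ p = 0),
      (ShortComplex.mk i p w).ShortExact ∧ l ≫ i = j ∧ Mono l ∧
      FlatMod.IsFinLocFreeOfRank (grk G) G' ∧ FlatMod.IsFinLocFreeOfRank (grk Q) Q ∧ r = grk G + grk Q ∧
      cdeg k G ≤ cdeg k G' ∧ (cdeg k G = cdeg k G' → IsIso l) ∧
      Curv2.deg k X E r = cdeg k G' + cdeg k Q := by
  haveI := isNoetherian_of_proper k X
  have hEc := isCoh_of_rank hE
  have hS₀ : (ShortComplex.mk j (cokernel.π j) (cokernel.condition j)).ShortExact :=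
    { exact := ShortComplex.exact_cokernel j }
  let P : ℤ → Prop := fun v => ∃ (C : X.Modules) (p : E ⟶ C), Epi p ∧ Coh.IsCoh C ∧ j ≫ p = 0 ∧
    grk C = grk (cokernel j) ∧ cdeg k C = v
  obtain ⟨v, ⟨C, p, hp, hC, hjp, hgC, hv⟩, hmin⟩ := Int.exists_least_of_bdd (P := P)
    ⟨cdeg k E - ((CurveRR.h k E 0 : ℤ) - grk G * Curv2.euler k X (Coh.structureModule X)), fun v hv => by
      obtain ⟨C, p, hp, hC, hjp, hgC, rfl⟩ := hv
      have hS : (ShortComplex.mk (kernel.ι p) p (kernel.condition p)).ShortExact := shortExact_ker p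
      have hd := cdeg_add (k := k) hS (isCoh_kernel k hEc hC p) hEc hC
      have hg := grk_add hS hEc
      have h0 := grk_add hS₀ hEc
      have hb := cdeg_le_bound k hX.dim hEc (kernel.ι p)
      change cdeg k E = cdeg k (kernel p) + cdeg k C at hd
      change grk E = grk (kernel p) + grk C at hg
      change grk E = grk G + grk (cokernel j) at h0
      rw [show grk (kernel p) = grk G by omega] at hb
      omega⟩
    ⟨_, cokernel j, cokernel.π j, inferInstance, isCoh_cokernel k hG hEc j, cokernel.condition j, rfl, rfl⟩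
  have hCl : FlatMod.IsFinLocFree C := by
    refine (exists_smaller_quotient k hX hC).resolve_right ?_
    rintro ⟨C', q, hq, hC', hg', hlt⟩
    have := hmin (cdeg k C') ⟨C', p ≫ q, epi_comp p q, hC', by rw [← Category.assoc, hjp, zero_comp], hg'.trans hgC, rfl⟩
    omega
  have hS : (ShortComplex.mk (kernel.ι p) p (kernel.condition p)).ShortExact := shortExact_ker p
  have hK := isCoh_kernel k hEc hC p
  have hg := grk_add hS hEc
  have h0 := grk_add hS₀ hEc
  change grk E = grk (kernel p) + grk C at hg
  change grk E = grk G + grk (cokernel j) at h0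
  have hgK : grk (kernel p) = grk G := by omega
  let l := kernel.lift p j hjp
  haveI : Mono l := mono_of_mono_fac (kernel.lift_ι p j hjp)
  obtain ⟨hle, heq⟩ := cdeg_le_of_mono (k := k) hX.dim l hG hK hgK.symm
  have hKl : FlatMod.IsFinLocFreeOfRank (grk G) (kernel p) := by
    have h := isFinLocFree_sub k hX (kernel.ι p) hK hE
    rwa [hgK] at h
  have hQl : FlatMod.IsFinLocFreeOfRank (grk C) C := rank_of_isFinLocFree hC.1 hCl
  have hsum : r = grk G + grk C := by
    rw [← grk_of_rank hE]; omega
  have hd := cdeg_add (k := k) hS hK hEc hC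
  have hdeg : Curv2.deg k X E r = cdeg k (kernel p) + cdeg k C := by
    have e : Curv2.deg k X E r = cdeg k E := deg_eq hE
    rw [e, hd]
  exact ⟨kernel p, C, kernel.ι p, l, p, kernel.condition p, hS, kernel.lift_ι _ _ _, inferInstance,
    hKl, hQl, hsum, hle, heq, hdeg⟩

end Groth.Agent.W7Slope
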