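import Groth.Agent.W7Slope.Twist
import Groth.Agent.W7Slope.Hom
import Groth.Agent.CurveRR.RatPoint
import Groth.Agent.CurveRR.SmoothPt

/-!
# Bounding `h^0` of a module by the degrees of its invertible submodules
-/

set_option autoImplicit false
set_option linter.style.haveILetI false
set_option linter.unusedSectionVars false
set_option backward.isDefEq.respectTransparency false

universe u

open CategoryTheory CategoryTheory.Limits AlgebraicGeometry TopologicalSpace Opposite
open Groth.Agent.CurveRR Groth.Agent.CohFinite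

noncomputable section

namespace Groth.Agent.W7Slope

variable {k : Type u} [Field k] {X : Scheme.{u}} [X.Over (Spec (CommRingCat.of k))]
  [IsProper (X ↘ Spec (CommRingCat.of k))]

/-- Subadditivity of `h^0`. -/
theorem h0_le_add {S : ShortComplex X.Modules} (hS : S.ShortExact) (h₁ : Coh.IsCoh S.X₁) (h₂ : Coh.IsCoh S.X₂)
    (h₃ : Coh.IsCoh S.X₃) : h k S.X₂ 0 ≤ h k S.X₁ 0 + h k S.X₃ 0 := by
  haveI := finite_proper k X _ h₁ 0
  haveI := finite_proper k X _ h₂ 0
  haveI := finite_proper k X _ h₃ 0
  have h1 := LinearMap.finrank_range_add_finrank_ker (hhMap k S.g 0)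
  have h2 := Submodule.finrank_le (LinearMap.range (hhMap k S.g 0))
  have h3 : Module.finrank k (LinearMap.ker (hhMap k S.g 0)) ≤ h k S.X₁ 0 := by
    rw [← range_f_eq_ker_g hS 0]
    exact LinearMap.finrank_range_le _
  change Module.finrank k (Coh.HH X S.X₂ 0) ≤ _
  change _ ≤ Module.finrank k (Coh.HH X S.X₃ 0) at h2
  change _ ≤ _ + Module.finrank k (Coh.HH X S.X₃ 0)
  omega

variable [IsIntegral X]

/-- If `G` has no invertible submodule of degree `≥ n`, then `h^0(G) ≤ r n`, given a point of degree one. -/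
theorem h0_le_mul_of_no_line (hX : RegCurve X) {P : X} (hP : IsClosed ({P} : Set X))
    (hI : PicF.IsInvertible (ClSub.idealMod (Scheme.IdealSheafData.vanishingIdeal ⟨{P}, hP⟩)))
    (h1 : h k (ClSub.quotMod (Scheme.IdealSheafData.vanishingIdeal ⟨{P}, hP⟩)) 0 = 1) {r : ℕ} (n : ℕ) :
    ∀ {G : X.Modules}, FlatMod.IsFinLocFreeOfRank r G →
      (∀ (L : X.Modules) (i : L ⟶ G), Mono i → PicF.IsInvertible L → Curv2.deg k X L 1 < n) →
      h k G 0 ≤ r * n := by
  haveI := isNoetherian_of_proper k X
  set I := ClSub.idealMod (Scheme.IdealSheafData.vanishingIdeal ⟨{P}, hP⟩) with hIdef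
  obtain ⟨hIc, hQ⟩ := isCoh_idealMod (Scheme.IdealSheafData.vanishingIdeal ⟨{P}, hP⟩)
  have hdI : Curv2.deg k X I 1 = -1 := by
    have h := euler_ideal_tensor (k := k) (TMul.isInvertible_structureModule (X := X))
      (Scheme.IdealSheafData.vanishingIdeal ⟨{P}, hP⟩) (point_dim hP)
    rw [euler_eq_of_iso (TMul.commIso _ _), euler_eq_of_iso (TMul.leftUnitIso _), h1] at h
    rw [Curv2.deg, h]
    push_cast
    ring
  induction n with
  | zero =>
    intro G hG hno
    by_contra hne
    obtain ⟨s, hs⟩ := exists_section (k := k) (L := G) (by omega)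
    obtain ⟨J, p, q, hp, hq, hfac, hJ, hK, hr, -, -, hpos⟩ := exists_image k (E := Coh.structureModule X)
      (G := G) hX (isFinLocFreeOfRank_one (TMul.isInvertible_structureModule (X := X))) hG s
    have h0 : grk (kernel s) = 0 := by have := hpos hs; omega
    rw [h0] at hK
    haveI : Mono s := Preadditive.mono_of_kernel_zero ((isZero_of_rank_zero hK).eq_of_src _ _)
    have := hno _ s inferInstance (TMul.isInvertible_structureModule (X := X))
    rw [deg_structure] at this
    simp at this
  | succ n ih =>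
    intro G hG hno
    have hG' := rank_tensor_inv hG hI
    have hT := shortExact_tmapR (hasFrames_of_rank hG)
      (ideal_shortExact (Scheme.IdealSheafData.vanishingIdeal ⟨{P}, hP⟩))
    have hle := h0_le_add (k := k) hT (isCoh_tensor' hIc (isCoh_of_rank hG))
      (isCoh_tensor' RefStalk.isCoh_structureModule (isCoh_of_rank hG)) (isCoh_tensor' hQ (isCoh_of_rank hG))
    change h k (CohB1.tensorMod (Coh.structureModule X) G) 0 ≤ h k (CohB1.tensorMod I G) 0 +
      h k (CohB1.tensorMod (ClSub.quotMod _) G) 0 at hle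
    rw [h_eq_of_iso (TMul.leftUnitIso G), h_eq_of_iso (TMul.commIso I G), h_eq_of_iso (TMul.commIso _ G),
      (h0_tensor (k := k) hQ (Scheme.IdealSheafData.vanishingIdeal ⟨{P}, hP⟩).support.isClosed (point_dim hP)
        (support_quotMod _) hG).1, h1] at hle
    obtain ⟨I', hI', ⟨e⟩⟩ := W7Hull.exists_tensor_inverse hI
    have hih : h k (CohB1.tensorMod G I) 0 ≤ r * n := by
      refine ih hG' fun L i hi hL => ?_
      haveI := mono_tmap hI' i
      have hd := hno _ (tmap i I' ≫ (untw e G).hom) (mono_comp _ _) (TMul.isInvertible_tensorMod hL hI')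
      rw [deg_twist hX.dim (isFinLocFreeOfRank_one hL) hI'] at hd
      have hsum := deg_twist (k := k) hX.dim (isFinLocFreeOfRank_one hI) hI'
      rw [deg_iso (k := k) e, deg_structure, hdI] at hsum
      push_cast at hd hsum ⊢
      omega
    rw [Nat.mul_succ]
    omega

end Groth.Agent.W7Slope
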