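import Groth.Agent.W7Slope.H1Quot
import Groth.Agent.CurveRR.GlobGen
import Groth.Agent.CurveRR.Tensor

/-!
# Global generation of bundles from vanishing of `H^1(E(-P))`
-/

set_option autoImplicit false
set_option linter.style.haveILetI false
set_option linter.unusedSectionVars false
set_option backward.isDefEq.respectTransparency false

universe u

open CategoryTheory CategoryTheory.Limits AlgebraicGeometry TopologicalSpace Opposite
open Groth.Agent.CurveRR Groth.Agent.CohFinite
open TMul (homOf val_homOf tm)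
open Groth.Agent.QC (res res_self)
open Groth.Agent.WeakAssLib (mgerm mgerm_res stalkHom stalkHom_germ stalkHom_smul)

noncomputable section

namespace Groth.Agent.W7Slope

variable {X : Scheme.{u}}

/-- Sections of `I_P ⊗ E` have germs in `m_P E_P`. -/
theorem germ_idealIncl_mem {E : X.Modules} {P : X} (hP : IsClosed ({P} : Set X)) {U : X.Opens} (hU : P ∈ U)
    (w : Γ(CohB1.tensorMod (ClSub.idealMod (Scheme.IdealSheafData.vanishingIdeal ⟨{P}, hP⟩)) E, U)) :
    mgerm E hU ((idealIncl _ E).app U w) ∈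
      IsLocalRing.maximalIdeal (X.presheaf.stalk P) • (⊤ : Submodule (X.presheaf.stalk P) (E.presheaf.stalk P)) := by
  obtain ⟨V, hVU, p, hPV, hp⟩ := TMul.exists_tt w hU
  rw [← mgerm_res E hVU hPV, Groth.Agent.QC.app_res, ← hp]
  clear hp
  induction p using TensorProduct.induction_on with
  | zero => rw [map_zero, map_zero, map_zero]; exact Submodule.zero_mem _
  | add a b ha hb => rw [map_add, map_add, map_add]; exact Submodule.add_mem _ ha hb
  | tmul a e =>
    show mgerm E hPV ((idealIncl _ E).app V (tm a e)) ∈ _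
    rw [idealIncl_tm, WeakAssLib.mgerm_smul]
    refine Submodule.smul_mem_smul ?_ Submodule.mem_top
    obtain ⟨W, hW, hPW, hWV⟩ := exists_isAffineOpen_mem_and_subset hPV
    let I := Scheme.IdealSheafData.vanishingIdeal ⟨{P}, hP⟩
    have hc := (Groth.Agent.QC.mem_range_idealModι_affine I ⟨W, hW⟩ ((ClSub.idealModι I).app W (res _ hWV a))).1
      ⟨_, rfl⟩
    rw [Scheme.IdealSheafData.vanishingIdeal_ideal, PrimeSpectrum.mem_vanishingIdeal] at hc
    have hcp := hc (hW.primeIdealOf ⟨P, hPW⟩) (by
      show hW.fromSpec (hW.primeIdealOf ⟨P, hPW⟩) ∈ ({P} : Set X)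
      exact hW.fromSpec_primeIdealOf ⟨P, hPW⟩)
    rw [IsLocalRing.mem_maximalIdeal, mem_nonunits_iff]
    intro hu
    have hb : P ∈ X.basicOpen ((ClSub.idealModι I).app W (res _ hWV a)) := by
      rw [Scheme.mem_basicOpen _ _ _ hPW, ← Groth.Agent.QC.app_res]
      convert hu using 1
      exact X.presheaf.germ_res_apply (homOfLE hWV) P hPW _
    have hmem : hW.primeIdealOf ⟨P, hPW⟩ ∈ hW.fromSpec ⁻¹ᵁ X.basicOpen ((ClSub.idealModι I).app W (res _ hWV a)) := by
      show hW.fromSpec (hW.primeIdealOf ⟨P, hPW⟩) ∈ X.basicOpen _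
      rw [hW.fromSpec_primeIdealOf]
      exact hb
    rw [hW.fromSpec_preimage_basicOpen] at hmem
    exact hmem hcp

variable {k : Type u} [Field k] [X.Over (Spec (CommRingCat.of k))]
  [IsProper (X ↘ Spec (CommRingCat.of k))] [IsIntegral X]

variable (k) in
include k in
/-- `H^1(E(-P)) = 0` for all closed points gives global generation. -/
theorem isGloballyGenerated_of_h1 (hdim : topologicalKrullDim X = 1) {E : X.Modules} {r : ℕ}
    (hE : FlatMod.IsFinLocFreeOfRank r E)
    (h : ∀ (P : X) (hP : IsClosed ({P} : Set X)), Subsingleton (Coh.HH X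
      (CohB1.tensorMod (ClSub.idealMod (Scheme.IdealSheafData.vanishingIdeal ⟨{P}, hP⟩)) E) 1)) :
    Curv2.IsGloballyGenerated E := by
  classical
  haveI := isNoetherian_of_proper k X
  have hEc := isCoh_of_rank hE
  haveI := finite_proper k X E hEc 0
  letI := secMod k E ⊤
  haveI : Module.Finite k Γ(E, ⊤) := Module.Finite.equiv (secH0 (k := k) E).symm
  let ι := ULift.{u} (Fin (Module.finrank k Γ(E, ⊤)))
  let b : ι → Γ(E, ⊤) := fun i => Module.finBasis k Γ(E, ⊤) i.down
  let ev : (∐ fun _ : ι => Coh.structureModule X) ⟶ E := Sigma.desc fun i => homOf (b i)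
  refine ⟨ι, ev, ?_⟩
  have hFc : Coh.IsCoh (∐ fun _ : ι => Coh.structureModule X) :=
    isCoh_of_iso (biproduct.isoCoproduct (fun _ : Fin (Module.finrank k Γ(E, ⊤)) => Coh.structureModule X) ≪≫
        Sigma.whiskerEquiv (f := fun _ : Fin (Module.finrank k Γ(E, ⊤)) => Coh.structureModule X)
          (g := fun _ : ι => Coh.structureModule X) Equiv.ulift.symm fun _ => Iso.refl _)
      (Devissage.isCoh_biproduct _ fun _ => RefStalk.isCoh_structureModule)
  have hC := isCoh_cokernel k hFc hEc ev
  have hglob : ∀ t : Γ(E, ⊤), (cokernel.π ev).app ⊤ t = 0 := by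
    intro t
    have hb : ∀ i, (cokernel.π ev).app ⊤ (b i) = 0 := fun i => by
      have h0 : homOf (b i) ≫ cokernel.π ev = 0 := by
        rw [show homOf (b i) = Sigma.ι (fun _ : ι => Coh.structureModule X) i ≫ ev from by simp [ev],
          Category.assoc, cokernel.condition, comp_zero]
      have h1 := congrArg (fun φ : Coh.structureModule X ⟶ _ => φ.app ⊤ (1 : Γ(X, ⊤))) h0
      refine Eq.trans ?_ (h1.trans rfl)
      show (cokernel.π ev).app ⊤ (b i) = (cokernel.π ev).app ⊤ (TMul.val (homOf (b i)) ⊤)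
      rw [val_homOf, res_self]
    rw [← (Module.finBasis k Γ(E, ⊤)).sum_repr t, map_sum]
    refine Finset.sum_eq_zero fun j _ => ?_
    show (cokernel.π ev).app ⊤ (cst k X ⊤ _ • b ⟨j⟩) = 0
    rw [TMul.app_smul, hb, smul_zero]
  have hpt : ∀ P : X, IsClosed ({P} : Set X) → Subsingleton ((cokernel ev).presheaf.stalk P) := by
    intro P hP
    let I := Scheme.IdealSheafData.vanishingIdeal ⟨{P}, hP⟩
    have hT := shortExact_tmapR (hasFrames_of_rank hE) (ideal_shortExact I)
    obtain ⟨hIc, hQ⟩ := isCoh_idealMod I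
    let e0 := TMul.leftUnitIso E
    let g : E ⟶ CohB1.tensorMod (ClSub.quotMod I) E :=
      e0.inv ≫ tmap (ClSub.toSubscheme I) E
    have hS : (ShortComplex.mk (idealIncl I E) g (by
        simp only [idealIncl, g, Category.assoc, Iso.hom_inv_id_assoc, e0]
        rw [← tmap_comp, show ClSub.idealModι I ≫ ClSub.toSubscheme I = 0 from kernel.condition _, tmap_zero])).ShortExact :=
      by
        refine ShortComplex.shortExact_of_iso ?_ hT
        exact ShortComplex.isoMk (Iso.refl _) e0 (Iso.refl _) (by simp [idealIncl, e0]) (by simp [g, e0])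
    have hsurj : Function.Surjective (g.app ⊤) := by
      rw [← surjective_hh0_iff (k := k)]
      intro x
      exact (δH_eq_zero_iff (shortExact_toAb hS) 0 x).1 ((h P hP).elim _ _)
    letI := secMod k E ⊤
    haveI := RegDual.finite_stalk hC P
    haveI := isNoetherian_of_proper k X
    have key : ∀ v : E.presheaf.stalk P, ∃ (t : Γ(E, ⊤)),
        v - mgerm E (Opens.mem_top P) t ∈
          IsLocalRing.maximalIdeal (X.presheaf.stalk P) • (⊤ : Submodule (X.presheaf.stalk P) (E.presheaf.stalk P)) := by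
      intro v
      obtain ⟨U, hPU, e, rfl⟩ := E.presheaf.exists_germ_eq (x := P) v
      have hη : genericPoint X ∈ U := ((genericPoint_spec X).specializes (Set.mem_univ P)).mem_open U.2 hPU
      have hne := genericPoint_ne_of_closed (k := k) hdim hP
      have hQs : CohB1.support (CohB1.tensorMod (ClSub.quotMod I) E) ⊆ ({P} : Set X) := by
        intro z hz
        by_contra hzP
        refine (Groth.Agent.QC.notMem_support_iff z).2 (fun W hzW s => ?_) hz
        refine ⟨W ⊓ ⟨({P} : Set X)ᶜ, hP.isOpen_compl⟩, inf_le_left, ⟨hzW, hzP⟩, ?_⟩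
        exact suppIn_tensor (suppIn_of_subset (show CohB1.support (ClSub.quotMod I) ⊆ ({P} : Set X) from
          fun y hy => by simpa [I] using support_quotMod I hy)) E _ _ fun x hx => hx.2
      obtain ⟨σ, hσ⟩ : ∃ σ : Γ(CohB1.tensorMod (ClSub.quotMod I) E, ⊤),
          mgerm _ (Opens.mem_top P) σ = mgerm _ hPU (g.app U e) := by
        obtain ⟨σ, hσ⟩ := SuppZero.exists_extend_global _ (fun T hT =>
          ((Set.subsingleton_singleton).anti (hT.trans hQs)).eq_empty_or_singleton.elim
            (fun h0 => h0 ▸ isClosed_empty) fun ⟨y, hy⟩ => by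
              rw [hy, show y = P from Set.mem_singleton_iff.1 ((hT.trans hQs) (hy.ge rfl))]; exact hP) U (g.app U e)
        exact ⟨σ, by rw [← mgerm_res _ (le_top : U ≤ ⊤) hPU σ, hσ]⟩
      obtain ⟨t, ht⟩ := hsurj σ
      refine ⟨t, ?_⟩
      have hker : stalkHom g P (mgerm E hPU e - mgerm E (Opens.mem_top P) t) = 0 := by
        rw [map_sub, stalkHom_germ, stalkHom_germ, ht, hσ, sub_self]
      obtain ⟨u, hu⟩ := ((ShortComplex.moduleCat_exact_iff _).1
        (hS.exact.map (DerSch.stalkFunctor X P))) _ hker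
      obtain ⟨W, hPW, w, rfl⟩ := (CohB1.tensorMod (ClSub.idealMod I) E).presheaf.exists_germ_eq (x := P) u
      rw [← hu]
      change stalkHom (idealIncl I E) P (mgerm _ hPW w) ∈ _
      rw [stalkHom_germ]
      exact germ_idealIncl_mem hP hPW w
    refine Submodule.subsingleton_iff (R := X.presheaf.stalk P) |>.1 (subsingleton_of_bot_eq_top ?_)
    refine (Submodule.eq_bot_of_le_smul_of_le_jacobson_bot (IsLocalRing.maximalIdeal (X.presheaf.stalk P)) ⊤
      Module.Finite.fg_top (fun c _ => ?_) (IsLocalRing.maximalIdeal_le_jacobson _)).symm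
    obtain ⟨v, rfl⟩ := (ModuleCat.epi_iff_surjective _).1
      (inferInstance : Epi ((DerSch.stalkFunctor X P).map (cokernel.π ev))) c
    obtain ⟨t, ht⟩ := key v
    let π' := ((DerSch.stalkFunctor X P).map (cokernel.π ev)).hom
    have hm := Submodule.mem_map_of_mem (f := π') ht
    rw [Submodule.map_smul''] at hm
    suffices h2 : π' v ∈ IsLocalRing.maximalIdeal (X.presheaf.stalk P) •
        Submodule.map π' (⊤ : Submodule (X.presheaf.stalk P) (E.presheaf.stalk P)) from
      Submodule.smul_mono le_rfl le_top h2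
    convert hm using 1
    rw [map_sub]
    change stalkHom (cokernel.π ev) P v = stalkHom (cokernel.π ev) P v - stalkHom (cokernel.π ev) P (mgerm E _ t)
    rw [stalkHom_germ, hglob, map_zero, sub_zero]
  haveI : JacobsonSpace X := LocallyOfFiniteType.jacobsonSpace (X ↘ Spec (CommRingCat.of k))
  have hz : IsZero (cokernel ev) := by
    suffices hs : ∀ x : X, x ∉ CohB1.support (cokernel ev) by
      refine (IsZero.iff_id_eq_zero _).2 (Scheme.Modules.hom_ext _ _ fun U => ?_)
      ext t
      refine Groth.Agent.QC.section_eq_of_locally fun y hy => ?_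
      obtain ⟨W, hW, hyW, hW0⟩ := (Groth.Agent.QC.notMem_support_iff y).1 (hs y) U hy t
      exact ⟨W, hW, hyW, hW0.trans (map_zero _).symm⟩
    intro x hx
    obtain ⟨z, hz, hzc⟩ := (isClosed_closure (s := ({x} : Set X))).exists_closed_singleton ⟨x, subset_closure rfl⟩
    exact ((Groth.Agent.QC.isClosed_support hC.2).closure_subset_iff.2 (Set.singleton_subset_iff.2 hx) hz) (hpt z hzc)
  exact Preadditive.epi_of_isZero_cokernel ev hz

end Groth.Agent.W7Slope

namespace Groth.Agent.W7Slope

variable {X : Scheme.{u}} {k : Type u} [Field k] [X.Over (Spec (CommRingCat.of k))]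
  [IsProper (X ↘ Spec (CommRingCat.of k))] [IsIntegral X]

variable (k) in
include k in
/-- A bundle which is not globally generated has a corank-one subbundle of small codegree. -/
theorem exists_quotient_deg_le_of_not_gg [IsAlgClosed k] (hdim : topologicalKrullDim X = 1) (hX : RegCurve X)
    {E : X.Modules} {r : ℕ} (hE : FlatMod.IsFinLocFreeOfRank r E) (hgg : ¬ Curv2.IsGloballyGenerated E) :
    ∃ (K : X.Modules) (i : K ⟶ E) (n : ℕ), Mono i ∧ FlatMod.IsFinLocFreeOfRank n K ∧ r = n + 1 ∧
      Curv2.deg k X E r - Curv2.deg k X K n ≤ 2 * (Curv2.genus k X : ℤ) - 1 := by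
  haveI := isNoetherian_of_proper k X
  obtain ⟨P, hP, h1⟩ : ∃ (P : X) (hP : IsClosed ({P} : Set X)), ¬ Subsingleton (Coh.HH X
      (CohB1.tensorMod (ClSub.idealMod (Scheme.IdealSheafData.vanishingIdeal ⟨{P}, hP⟩)) E) 1) := by
    by_contra! hh
    exact hgg (isGloballyGenerated_of_h1 k hdim hE hh)
  set I := ClSub.idealMod (Scheme.IdealSheafData.vanishingIdeal ⟨{P}, hP⟩) with hIdef
  have hI : PicF.IsInvertible I :=
    isInvertible_pointIdeal hX.dim hP (genericPoint_ne_of_closed (k := k) hdim hP) (hX.reg P)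
  have hdI : Curv2.deg k X I 1 = -1 := by
    have h := euler_ideal_tensor (k := k) (TMul.isInvertible_structureModule (X := X))
      (Scheme.IdealSheafData.vanishingIdeal ⟨{P}, hP⟩) (point_dim hP)
    rw [euler_eq_of_iso (TMul.commIso _ _), euler_eq_of_iso (TMul.leftUnitIso _), h0_quotMod_point hP] at h
    rw [hIdef, Curv2.deg, h]
    push_cast
    ring
  obtain ⟨I', hI', ⟨e⟩⟩ := W7Hull.exists_tensor_inverse hI
  have hdI' : Curv2.deg k X I' 1 = 1 := by
    have h := deg_twist (k := k) hX.dim (isFinLocFreeOfRank_one hI) hI'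
    rw [deg_iso (k := k) e, deg_structure, hdI] at h
    push_cast at h
    omega
  have h1' : ¬ Subsingleton (Coh.HH X (CohB1.tensorMod E I) 1) := fun hs => h1 (by
    haveI := hs
    exact (hhEquiv k (TMul.commIso I E) 1).toEquiv.subsingleton)
  obtain ⟨K, i, n, hi, hK, hrn, hle⟩ := exists_quotient_deg_le k hdim hX (rank_tensor_inv hE hI) h1'
  haveI := hi
  haveI := mono_tmap hI' i
  refine ⟨CohB1.tensorMod K I', tmap i I' ≫ (untw e E).hom, n, mono_comp _ _, rank_tensor_inv hK hI', hrn, ?_⟩
  rw [deg_twist hX.dim hK hI', hdI']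
  rw [deg_twist hX.dim hE hI, hdI] at hle
  have hr' : (r : ℤ) = (n : ℤ) + 1 := by exact_mod_cast hrn
  linarith

end Groth.Agent.W7Slope
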