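import Groth.Agent.CycPB.DualFilt
import Groth.Agent.W7Slope.Sat
import Groth.Agent.W7Slope.Hom
import Groth.Agent.W7Slope.Twist
import Groth.Agent.K0Coh.Basic
import Groth.Agent.ResDesc.Dual
import Groth.Agent.ZeroSch.Basic

/-!
The Euler characteristic of the dual of a locally free module on a regular curve.
-/

set_option autoImplicit false
set_option backward.isDefEq.respectTransparency false
set_option linter.style.haveILetI false
set_option linter.unusedSectionVars false

universe u

open CategoryTheory CategoryTheory.Limits AlgebraicGeometry TopologicalSpace Opposite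
open Groth.Agent.CurveRR
open Groth.Agent.CycPB (dualM dualIso exists_dual_shortExact)
open Groth.Agent.CohFinite (tmap)

noncomputable section

namespace Groth.Agent.W7Slope

variable {X : Scheme.{u}} {k : Type u} [Field k] [X.Over (Spec (CommRingCat.of k))]
  [IsProper (X ↘ Spec (CommRingCat.of k))] [IsIntegral X]

theorem isFinLocFree_of_rank {E : X.Modules} {r : ℕ} (hE : FlatMod.IsFinLocFreeOfRank r E) :
    FlatMod.IsFinLocFree E := fun x => let ⟨U, h1, h2⟩ := hE x; ⟨U, r, h1, h2⟩

theorem isCoh_dualM [IsLocallyNoetherian X] {E : X.Modules} {r : ℕ} (hE : FlatMod.IsFinLocFreeOfRank r E) :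
    Coh.IsCoh (dualM E) :=
  CohFinite.isCoh_of_iso (dualIso E).symm
    (K0Coh.isCoh_of_isFinLocFree (ResDesc.isFinLocFree_dual (isFinLocFree_of_rank hE)))

variable (k) in
include k in
/-- A locally free module of positive rank contains an invertible module. -/
theorem exists_line (hX : RegCurve X) {A : X.Modules} (hA : CohB1.IsAmple A) {E : X.Modules} {r : ℕ}
    (hr : 0 < r) (hE : FlatMod.IsFinLocFreeOfRank r E) :
    ∃ (L : X.Modules) (i : L ⟶ E), Mono i ∧ PicF.IsInvertible L := by
  haveI := isNoetherian_of_proper k X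
  haveI : E.IsQuasicoherent := (isCoh_of_rank hE).1
  obtain ⟨n, hn⟩ := TMul.eventually_isGloballyGenerated hA (F := E) (isCoh_of_rank hE).2
  obtain ⟨ι, p, hp⟩ := hn n le_rfl
  have hP := TMul.isInvertible_tensorPow hA.1 n
  have hG : FlatMod.IsFinLocFreeOfRank r (CohB1.tensorMod E (CohB1.tensorPow A n)) := by
    have h := rank_tensor_inv hE hP
    exact h
  have hne : p ≠ 0 := fun h0 => pos_rank_not_isZero k hr hG (by
    rw [IsZero.iff_id_eq_zero, ← cancel_epi p, h0, zero_comp, zero_comp])
  obtain ⟨s, hs⟩ : ∃ s : Coh.structureModule X ⟶ CohB1.tensorMod E (CohB1.tensorPow A n), s ≠ 0 := by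
    by_contra h
    push Not at h
    exact hne (Sigma.hom_ext _ _ fun i => (h _).trans comp_zero.symm)
  obtain ⟨J, q, j, -, -, -, -, hK, hr', -, -, hpos⟩ := exists_image k (E := Coh.structureModule X) hX
    (isFinLocFreeOfRank_one (TMul.isInvertible_structureModule (X := X))) hG s
  have h0 : grk (kernel s) = 0 := by have := hpos hs; omega
  rw [h0] at hK
  haveI : Mono s := Preadditive.mono_of_kernel_zero ((isZero_of_rank_zero hK).eq_of_src _ _)
  obtain ⟨M, hM, ⟨e⟩⟩ := W7Hull.exists_tensor_inverse hP
  haveI := mono_tmap hM s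
  exact ⟨_, tmap s M ≫ (TMul.assocIso E _ M ≪≫ PicGrp.tensorModIso (Iso.refl E) e ≪≫ TMul.commIso _ _ ≪≫
    TMul.leftUnitIso E).hom, inferInstance,
    TMul.isInvertible_tensorMod TMul.isInvertible_structureModule hM⟩

variable (k) in
/-- Riemann-Roch for the dual of an invertible module. -/
theorem euler_dual_line (hdim : topologicalKrullDim X ≤ 1) {L : X.Modules} (hL : PicF.IsInvertible L) :
    Curv2.euler k X (dualM L) + Curv2.euler k X L = 2 * Curv2.euler k X (Coh.structureModule X) := by
  haveI := W7Hull.isIso_evDual hL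
  have h := deg_tensor_inv (k := k) hdim hL (W7Hull.isInvertible_dual hL)
  rw [deg_iso (k := k) (asIso (W7Hull.evDual L)), deg_structure] at h
  rw [euler_eq_of_iso (dualIso L)]
  rw [Curv2.deg, Curv2.deg] at h
  push_cast at h
  linarith

variable (k) in
/-- Riemann-Roch for the dual. -/
theorem euler_dual (hX : RegCurve X) {A : X.Modules} (hA : CohB1.IsAmple A) :
    ∀ (r : ℕ) {E : X.Modules}, FlatMod.IsFinLocFreeOfRank (r + 1) E →
      Curv2.euler k X (dualM E) + Curv2.euler k X E = 2 * (r + 1) * Curv2.euler k X (Coh.structureModule X) ∧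
        grk (dualM E) = r + 1 := by
  haveI := isNoetherian_of_proper k X
  intro r
  induction r with
  | zero =>
    intro E hE
    have hL := ZeroSch.isInvertible_of_rankOne hE
    refine ⟨?_, (grk_iso (dualIso E)).trans (grk_of_rank (isFinLocFreeOfRank_one (W7Hull.isInvertible_dual hL)))⟩
    rw [euler_dual_line k hX.dim hL]
    push_cast; ring
  | succ r ih =>
    intro E hE
    obtain ⟨L, j, hj, hL⟩ := exists_line k hX hA (Nat.succ_pos _) hE
    have hg1 : grk L = 1 := grk_of_rank (isFinLocFreeOfRank_one hL)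
    obtain ⟨G, Q, i, l, p, w, hS, -, -, hG, hQ, hsum, -⟩ := exists_saturation k hX hE (isCoh_of_inv hL) j
    rw [hg1] at hG hsum
    have hQr : grk Q = r + 1 := by omega
    rw [hQr] at hQ
    obtain ⟨f', g', w', hS'⟩ := exists_dual_shortExact hS (isFinLocFree_of_rank hE) (isFinLocFree_of_rank hQ)
    have a := euler_add (k := k) hS' (isCoh_dualM hQ) (isCoh_dualM hE) (isCoh_dualM hG)
    have b := euler_add (k := k) hS (isCoh_of_rank hG) (isCoh_of_rank hE) (isCoh_of_rank hQ)
    have c := euler_dual_line k hX.dim (ZeroSch.isInvertible_of_rankOne hG)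
    obtain ⟨d, dr⟩ := ih hQ
    have g := grk_add hS' (isCoh_dualM hE)
    change grk (dualM E) = grk (dualM Q) + grk (dualM G) at g
    refine ⟨?_, by rw [g, dr, grk_iso (dualIso G), grk_of_rank (isFinLocFreeOfRank_one (W7Hull.isInvertible_dual (ZeroSch.isInvertible_of_rankOne hG)))]⟩
    change Curv2.euler k X (dualM E) = Curv2.euler k X (dualM Q) + Curv2.euler k X (dualM G) at a
    change Curv2.euler k X E = Curv2.euler k X G + Curv2.euler k X Q at b
    rw [a, b]
    push_cast at d ⊢
    linarith

variable (k) in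
/-- A locally free module embedded in its dual has nonpositive degree. -/
theorem euler_le_of_mono_dual (hX : RegCurve X) {A : X.Modules} (hA : CohB1.IsAmple A) {r : ℕ} {E : X.Modules}
    (hE : FlatMod.IsFinLocFreeOfRank (r + 1) E) (t : E ⟶ RefHull.dual E) [Mono t] :
    Curv2.euler k X E ≤ (r + 1) * Curv2.euler k X (Coh.structureModule X) := by
  haveI := isNoetherian_of_proper k X
  obtain ⟨hd, hr⟩ := euler_dual k hX hA r hE
  obtain ⟨h, -⟩ := cdeg_le_of_mono (k := k) hX.dim (t ≫ (dualIso E).inv) (isCoh_of_rank hE) (isCoh_dualM hE)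
    (by rw [hr, grk_of_rank hE])
  rw [cdeg, cdeg, hr, grk_of_rank hE] at h
  linarith

end Groth.Agent.W7Slope
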