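import Groth.Agent.W7Slope.Hom
import Mathlib.AlgebraicGeometry.AlgClosed.Basic
import Mathlib.LinearAlgebra.Charpoly.ToMatrix
import Mathlib.LinearAlgebra.Determinant

/-!
# Simple bundles: endomorphisms are scalars
-/

set_option autoImplicit false
set_option linter.style.haveILetI false
set_option linter.unusedSectionVars false
set_option backward.isDefEq.respectTransparency false
set_option backward.isDefEq.respectTransparency.types false

universe u

open CategoryTheory CategoryTheory.Limits AlgebraicGeometry TopologicalSpace Opposite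
open Groth.Agent.CurveRR
open Groth.Agent.WeakAssLib (mgerm mgerm_res stalkHom stalkHom_germ)

noncomputable section

namespace Groth.Agent.W7Slope

/-- Multiplication by a global function. -/
def scal {X : Scheme.{u}} (E : X.Modules) (r : Γ(X, ⊤)) : E ⟶ E :=
  ⟨PresheafOfModules.homMk (Coh.smulAb E r).hom (fun U c m => by
    change Coh.resTop X U r • (c • m) = c • (Coh.resTop X U r • m)
    rw [smul_smul, smul_smul]
    congr 1
    exact mul_comm (G := Γ(X, U.unop)) _ _)⟩

theorem toSheaf_scal {X : Scheme.{u}} (E : X.Modules) (r : Γ(X, ⊤)) :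
    (SheafOfModules.toSheaf X.ringCatSheaf).map (scal E r) = Coh.smulAb E r := rfl

theorem stalk_scal {X : Scheme.{u}} (E : X.Modules) (r : Γ(X, ⊤)) (x : X) (u : E.presheaf.stalk x) :
    stalkHom (scal E r) x u = (X.presheaf.germ ⊤ x trivial).hom r • u := by
  obtain ⟨W, hW, s, rfl⟩ := E.presheaf.exists_germ_eq (x := x) u
  refine (stalkHom_germ _ hW s).trans ?_
  refine Eq.trans ?_ (congrArg (· • mgerm E hW s) (X.presheaf.germ_res_apply (homOfLE (le_top : W ≤ ⊤)) x hW r))
  exact WeakAssLib.mgerm_smul E hW _ s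

variable {k : Type u} [Field k] [IsAlgClosed k] {X : Scheme.{u}} [X.Over (Spec (CommRingCat.of k))]
  [IsProper (X ↘ Spec (CommRingCat.of k))]

theorem toResidue_surjective (x : X) (hx : IsClosed ({x} : Set X)) :
    Function.Surjective fun c : k => (X.residue x).hom ((X.presheaf.germ ⊤ x trivial).hom
      (Coh.toGlobal (X ↘ Spec (CommRingCat.of k)) c)) := by
  let f := X ↘ Spec (CommRingCat.of k)
  have e : (Scheme.ΓSpecIso (CommRingCat.of k)).inv ≫ f.appTop ≫ X.presheaf.germ ⊤ x trivial ≫ X.residue x =
      (residueFieldIsoBase f x hx).inv := by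
    apply Spec.map_injective
    rw [SpecMap_residueFieldIsoBase_inv, Scheme.fromSpecResidueField]
    simp only [Spec.map_comp, Category.assoc]
    congr 1
    rw [← Scheme.fromSpecStalk_toSpecΓ_assoc, ← Scheme.toSpecΓ_naturality_assoc]
    congr 1
    simp
  intro a
  refine ⟨(residueFieldIsoBase f x hx).hom a, ?_⟩
  refine (congrArg (fun g => g ((residueFieldIsoBase f x hx).hom a)) e).trans ?_
  exact Iso.hom_inv_id_apply _ a

/-- A locally free module all of whose nonzero endomorphisms are invertible is simple. -/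
theorem exists_scalar [IsIntegral X] {E : X.Modules} {r : ℕ} (hr : 0 < r)
    (hE : FlatMod.IsFinLocFreeOfRank r E) (hiso : ∀ ψ : E ⟶ E, ψ ≠ 0 → IsIso ψ) (φ : E ⟶ E) :
    ∃ c : k, (SheafOfModules.toSheaf X.ringCatSheaf).map φ =
      Coh.smulAb E (Coh.toGlobal (X ↘ Spec (CommRingCat.of k)) c) := by
  haveI := isNoetherian_of_proper k X
  obtain ⟨x, -, hx⟩ := IsClosed.exists_closed_singleton (isClosed_univ (X := X)) Set.univ_nonempty
  obtain ⟨W, hxW, ⟨i⟩⟩ := hE x
  obtain ⟨b⟩ := LocFree.exists_basis_stalk i (isCoh_of_rank hE).1 hxW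
  haveI := Module.Free.of_basis b
  haveI := Module.Finite.of_basis b
  let f : E.presheaf.stalk x →ₗ[X.presheaf.stalk x] E.presheaf.stalk x :=
    ((DerSch.stalkFunctor X x).map φ).hom
  haveI : IsAlgClosed (X.residueField x) :=
    IsAlgClosed.of_ringEquiv k _ (residueFieldIsoBase (X ↘ Spec (CommRingCat.of k)) x hx).commRingCatIsoToRingEquiv.symm
  have hdeg : (f.charpoly.map (X.residue x).hom).degree ≠ 0 := by
    rw [f.charpoly_monic.degree_map]
    intro h
    have h' := Polynomial.natDegree_eq_zero_iff_degree_le_zero.2 h.le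
    rw [LinearMap.charpoly_natDegree, Module.finrank_eq_card_basis b, Fintype.card_ulift, Fintype.card_fin] at h'
    omega
  obtain ⟨a, ha⟩ := IsAlgClosed.exists_root _ hdeg
  obtain ⟨c, rfl⟩ := toResidue_surjective (k := k) x hx a
  refine ⟨c, ?_⟩
  by_contra hne
  let t := (X.presheaf.germ ⊤ x trivial).hom (Coh.toGlobal (X ↘ Spec (CommRingCat.of k)) c)
  have hψ : scal E (Coh.toGlobal (X ↘ Spec (CommRingCat.of k)) c) - φ ≠ 0 := fun h => hne (by
    rw [← sub_eq_zero.1 h]; rfl)
  haveI := hiso _ hψ
  have hu : IsUnit (t • (1 : Module.End (X.presheaf.stalk x) (E.presheaf.stalk x)) - f).det := by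
    let e := ((DerSch.stalkFunctor X x).mapIso
      (asIso (scal E (Coh.toGlobal (X ↘ Spec (CommRingCat.of k)) c) - φ))).toLinearEquiv
    have he : e.toLinearMap = t • (1 : Module.End (X.presheaf.stalk x) (E.presheaf.stalk x)) - f := by
      refine LinearMap.ext fun u => ?_
      show ((DerSch.stalkFunctor X x).map (scal E _ - φ)).hom u = t • (show E.presheaf.stalk x from u) - f u
      rw [Functor.map_sub, ModuleCat.hom_sub, LinearMap.sub_apply]
      congr 1
      exact stalk_scal E _ x u
    rw [← he]
    exact LinearEquiv.isUnit_det' e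
  rw [← Algebra.algebraMap_eq_smul_one, ← LinearMap.eval_charpoly] at hu
  have h0 := hu.map (X.residue x).hom
  rw [← Polynomial.eval_map_apply] at h0
  exact h0.ne_zero ha

end Groth.Agent.W7Slope
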