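import Groth.Agent.W7Slope.Hom
import Groth.Agent.Nakai.AlgEquiv
import Groth.Agent.Nakai.SurfSeq
import Groth.Agent.PicBdd.Hilb
import Groth.Agent.CycPB.DualFilt
import Groth.Agent.ExtShX.DualTensor
import Groth.Agent.DQCoh.RelTor
import Groth.Agent.K0Coh.Basic
import Groth.Agent.Nagata.Bundles
import Groth.Agent.QC.FiniteType
import Mathlib.AlgebraicGeometry.AlgClosed.Basic

/-!
Stable bundles on a curve are separated in families.
-/

set_option autoImplicit false
set_option linter.style.haveILetI false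
set_option linter.unusedSectionVars false
set_option backward.isDefEq.respectTransparency false

universe u

open CategoryTheory CategoryTheory.Limits AlgebraicGeometry TopologicalSpace

noncomputable section

namespace Groth.Agent.W7Slope

variable {k : Type u} [Field k] {X : Scheme.{u}} [X.Over (Spec (CommRingCat.of k))]
  [IsProper (X ↘ Spec (CommRingCat.of k))]

variable (k) in
include k in
/-- Global sections of `D^∨ ⊗ M` detect morphisms `D ⟶ M`. -/
theorem h0_dualTensor_pos_iff {D M : X.Modules} (hD : FlatMod.IsFinLocFree D) (hM : FlatMod.IsFinLocFree M) :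
    0 < CurveRR.h k (CohB1.tensorMod (RefHull.dual D) M) 0 ↔ ∃ φ : D ⟶ M, φ ≠ 0 := by
  haveI := CurveRR.isNoetherian_of_proper k X
  haveI : IsIso (ExtShX.dualTensorTo D M) := ExtShX.isIso_dualTensorTo hD M
  let a := asIso (ExtShX.dualTensorTo D M)
  let b : CohB1.tensorMod D (Coh.structureModule X) ≅ D := TMul.commIso _ _ ≪≫ TMul.leftUnitIso D
  let adj := W7Hull.homShAdj D
  let c : ((DCoh.tensorBi (X := X)).obj D).obj (Coh.structureModule X) ≅ D := CycPB.tensorUnitIso D
  constructor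
  · intro h
    obtain ⟨s, hs⟩ := Nakai.exists_section_of_h0 k h
    refine ⟨c.inv ≫ (adj.homEquiv _ _).symm (s ≫ a.hom), fun h0 => hs ?_⟩
    rw [Preadditive.IsIso.comp_left_eq_zero] at h0
    have h1 : s ≫ a.hom = 0 := by
      rw [← (adj.homEquiv (Coh.structureModule X) M).apply_symm_apply (s ≫ a.hom), h0]
      haveI := adj.right_adjoint_additive
      rw [Adjunction.homEquiv_unit, Functor.map_zero, comp_zero]
    exact (Preadditive.IsIso.comp_right_eq_zero s a.hom).1 h1
  · rintro ⟨φ, hφ⟩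
    refine Nakai.h0_pos_of_section k (s := adj.homEquiv _ _ (c.hom ≫ φ) ≫ a.inv)
      (K0Coh.isCoh_of_isFinLocFree (ResDesc.isFinLocFree_tensorMod (ResDesc.isFinLocFree_dual hD) hM)) fun h0 => hφ ?_
    rw [Preadditive.IsIso.comp_right_eq_zero] at h0
    have h1 : c.hom ≫ φ = 0 := by
      rw [← (adj.homEquiv (Coh.structureModule X) M).symm_apply_apply (c.hom ≫ φ), h0]
      haveI := adj.right_adjoint_additive
      haveI := adj.left_adjoint_additive
      rw [Adjunction.homEquiv_counit, Functor.map_zero, zero_comp]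
    exact (Preadditive.IsIso.comp_left_eq_zero c.hom φ).1 h1

variable [Smooth (X ↘ Spec (CommRingCat.of k))] [IsAlgClosed k] {T : Scheme.{u}} (q : T ⟶ Spec (CommRingCat.of k)) [LocallyOfFiniteType q]

/-- Two families of bundles with the same fibres away from a point of the base: a nonzero map at that point. -/
theorem exists_hom_at [IsIntegral T] (hT : topologicalKrullDim T = 1) {r : ℕ} (hr : 0 < r)
    [IsIntegral X] {E E' : (Pic13.prodK k X q).Modules} (hE : FlatMod.IsFinLocFreeOfRank r E)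
    (hE' : FlatMod.IsFinLocFreeOfRank r E') (t₀ : Spec (CommRingCat.of k) ⟶ T) (ht₀ : t₀ ≫ q = 𝟙 _)
    (hiso : ∀ (t : Spec (CommRingCat.of k) ⟶ T) (ht : t ≫ q = 𝟙 _), t ≠ t₀ →
      Nonempty (Pic13.fibreMod k X q t ht E ≅ Pic13.fibreMod k X q t ht E')) :
    (∃ φ : Pic13.fibreMod k X q t₀ ht₀ E ⟶ Pic13.fibreMod k X q t₀ ht₀ E', φ ≠ 0) ∧
      Curv2.deg k X (Pic13.fibreMod k X q t₀ ht₀ E) r = Curv2.deg k X (Pic13.fibreMod k X q t₀ ht₀ E') r := by
  let x : ↑(Spec (CommRingCat.of k)) := default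
  let f := pullback.snd (X ↘ Spec (CommRingCat.of k)) q
  haveI : Flat f := inferInstance
  haveI : LocallyOfFinitePresentation f := inferInstance
  haveI : IsLocallyNoetherian (Pic13.prodK k X q) :=
    LocallyOfFiniteType.isLocallyNoetherian (pullback.snd (X ↘ Spec (CommRingCat.of k)) q ≫ q)
  have hlE := Nagata.isFinLocFree_of_rank' hE
  have hlE' := Nagata.isFinLocFree_of_rank' hE'
  let G := CohB1.tensorMod (RefHull.dual E) E'
  have hlG : FlatMod.IsFinLocFree G := ResDesc.isFinLocFree_tensorMod (ResDesc.isFinLocFree_dual hlE) hlE'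
  have hfp : ∀ {M : (Pic13.prodK k X q).Modules}, FlatMod.IsFinLocFree M → CohB1.IsFP M := fun {M} h => by
    haveI : M.IsQuasicoherent := (K0Coh.isCoh_of_isFinLocFree h).1
    exact QC.isFP_of_isQCoh_of_isFT (K0Coh.isCoh_of_isFinLocFree h).2
  have hfl : ∀ {M : (Pic13.prodK k X q).Modules}, FlatMod.IsFinLocFree M → FlatMod.IsFlatOver f M := fun {M} h =>
    DQCoh.flatOver_of_flat f (DerPerf.isFlat_of_isFinLocFree h)
  have hbetti : ∀ (t : Spec (CommRingCat.of k) ⟶ T) (ht : t ≫ q = 𝟙 _),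
      0 < PerfAux.betti f G (t.base x) 0 ↔
        ∃ φ : Pic13.fibreMod k X q t ht E ⟶ Pic13.fibreMod k X q t ht E', φ ≠ 0 := by
    intro t ht
    rw [PicBdd.betti_fibreMod k t ht x (K0Coh.isCoh_of_isFinLocFree hlG).1 0]
    let j := Pic13.sliceAt k X q t ht
    obtain ⟨d⟩ := CycPB.nonempty_pullback_dual j hlE
    obtain ⟨e⟩ := TMul.nonempty_pullTensorIso j (RefHull.dual E) E'
    rw [show CurveRR.h k (Pic13.fibreMod k X q t ht G) 0 = _ from
      CurveRR.h_eq_of_iso (k := k) (e.symm ≪≫ PicGrp.tensorModIso d (Iso.refl _)) 0]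
    exact h0_dualTensor_pos_iff k (DerPerf.isFinLocFree_pullback j hlE) (DerPerf.isFinLocFree_pullback j hlE')
  have key : ∀ U : Set T, IsOpen U → t₀.base x ∈ U → ∃ (t : Spec (CommRingCat.of k) ⟶ T) (_ : t ≫ q = 𝟙 _), t ≠ t₀ ∧ t.base x ∈ U := by
    intro U hU hU0
    haveI : JacobsonSpace T := LocallyOfFiniteType.jacobsonSpace q
    have hinf : ¬ (U ∩ closedPoints T ⊆ {t₀.base x}) := by
      intro hsub
      have h1 : U ⊆ {t₀.base x} := by
        have hcl : IsClosed ({t₀.base x} : Set T) := by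
          have h9 := mem_closedPoints_iff.1 (pointEquivClosedPoint q ⟨t₀, ht₀⟩).2
          rw [Subsingleton.elim x (IsLocalRing.closedPoint k)]
          exact h9
        intro s hs
        by_contra hne
        obtain ⟨z, hz, hz'⟩ := nonempty_inter_closedPoints (Z := U \ {t₀.base x}) ⟨s, hs, hne⟩ (hU.sdiff hcl).isLocallyClosed
        exact hz.2 (hsub ⟨hz.1, hz'⟩)
      have h2 : IsOpen ({t₀.base x} : Set T) := by
        rwa [(Set.Subset.antisymm h1 (Set.singleton_subset_iff.2 hU0)).symm]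
      have hcl : IsClosed ({t₀.base x} : Set T) := by
          have h9 := mem_closedPoints_iff.1 (pointEquivClosedPoint q ⟨t₀, ht₀⟩).2
          rw [Subsingleton.elim x (IsLocalRing.closedPoint k)]
          exact h9
      have h3 : ({t₀.base x} : Set T) = Set.univ := IsClopen.eq_univ ⟨hcl, h2⟩ (Set.singleton_nonempty _)
      haveI : Subsingleton T := Set.subsingleton_univ_iff.1 (h3 ▸ Set.subsingleton_singleton)
      haveI : Nonempty T := ⟨t₀.base x⟩
      haveI : Unique (IrreducibleCloseds T) := ⟨⟨⟨Set.univ, IrreducibleSpace.isIrreducible_univ T, isClosed_univ⟩⟩, fun Z =>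
        IrreducibleCloseds.ext (Set.eq_univ_of_forall fun s => by
          obtain ⟨s', hs'⟩ := Z.isIrreducible'.nonempty
          rwa [Subsingleton.elim s s'])⟩
      rw [topologicalKrullDim, Order.krullDim_eq_zero] at hT
      exact absurd hT (by norm_num)
    obtain ⟨z, ⟨hz, hzc⟩, hne⟩ := Set.not_subset.1 hinf
    let t := pointOfClosedPoint q z (mem_closedPoints_iff.1 hzc)
    have ht : t ≫ q = 𝟙 _ := pointOfClosedPoint_comp q z _
    have htz : t.base x = z := pointOfClosedPoint_apply q z _ x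
    exact ⟨t, ht, fun h => hne (by rw [← htz, h]; rfl), htz.symm ▸ hz⟩
  refine ⟨(hbetti t₀ ht₀).1 (Nat.pos_of_ne_zero fun h0 => ?_), ?_⟩
  · let U : Set T := {s | PerfAux.betti f G s 0 < 1}
    have hU : IsOpen U := BettiNN.isOpen_betti_lt f (hfp hlG) (hfl hlG) 0 1
    have hU0 : t₀.base x ∈ U := by
      show _ < 1
      omega
    obtain ⟨t, ht, hne, hz⟩ := key U hU hU0
    obtain ⟨e⟩ := hiso t ht hne
    have hpos := (hbetti t ht).2 ⟨e.hom, fun h => pos_rank_not_isZero k hr (Nagata.isFinLocFreeOfRank_pullback _ hE)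
      ((IsZero.iff_id_eq_zero _).2 ((e.hom_inv_id.symm.trans (by rw [h, zero_comp])) : 𝟙 (Pic13.fibreMod k X q t ht E) = 0))⟩
    exact absurd (show PerfAux.betti f G (t.base x) 0 < 1 from hz) (not_lt.2 hpos)
  · have hlc : ∀ {M : (Pic13.prodK k X q).Modules}, FlatMod.IsFinLocFree M → ∀ a b : T,
        PerfAux.eulerChar f M a = PerfAux.eulerChar f M b := fun {M} h a b =>
      (BettiNN.isLocallyConstant_eulerChar f (hfp h) (hfl h)).apply_eq_of_preconnectedSpace a b
    obtain ⟨t, ht, hne, -⟩ := key Set.univ isOpen_univ (Set.mem_univ _)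
    obtain ⟨e⟩ := hiso t ht hne
    have h1 := Nakai.eulerChar_fibreMod k t₀ ht₀ x (K0Coh.isCoh_of_isFinLocFree hlE).1
    have h2 := Nakai.eulerChar_fibreMod k t₀ ht₀ x (K0Coh.isCoh_of_isFinLocFree hlE').1
    have h3 := Nakai.eulerChar_fibreMod k t ht x (K0Coh.isCoh_of_isFinLocFree hlE).1
    have h4 := Nakai.eulerChar_fibreMod k t ht x (K0Coh.isCoh_of_isFinLocFree hlE').1
    rw [hlc hlE (t₀.base x) (t.base x), h3] at h1
    rw [hlc hlE' (t₀.base x) (t.base x), h4] at h2
    rw [Curv2.deg, Curv2.deg, ← h1, ← h2, CurveRR.euler_eq_of_iso (k := k) e]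

end Groth.Agent.W7Slope
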