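import Groth.Agent.W7Slope.Twist
import Groth.Agent.CurveRR.Series
import Groth.Agent.CurveRR.Curve

/-!
# Splitting extensions by a line bundle with vanishing `H^1`
-/

set_option autoImplicit false
set_option linter.style.haveILetI false
set_option linter.unusedSectionVars false
set_option backward.isDefEq.respectTransparency false

universe u

open CategoryTheory CategoryTheory.Limits AlgebraicGeometry TopologicalSpace Opposite
open Groth.Agent.CurveRR Groth.Agent.CohFinite
open TMul (homOf val_homOf)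
open Groth.Agent.QC (res res_self)

noncomputable section

namespace Groth.Agent.W7Slope

variable {k : Type u} [Field k] {X : Scheme.{u}} [X.Over (Spec (CommRingCat.of k))]

variable (k) in
include k in
/-- An extension of an invertible `L` with `H^1(X₁ ⊗ L⁻¹) = 0` splits. -/
theorem isSplitEpi_of_h1 (S : ShortComplex X.Modules) (hS : S.ShortExact) {L' : X.Modules}
    (hL' : PicF.IsInvertible L') (e : CohB1.tensorMod L' S.X₃ ≅ Coh.structureModule X)
    (h1 : Subsingleton (Coh.HH X (CohB1.tensorMod S.X₁ L') 1)) : IsSplitEpi S.g := by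
  have hT := shortExact_tmap hL' hS
  have hs : Function.Surjective ((tmap S.g L').app ⊤) := by
    rw [← surjective_hh0_iff (k := k)]
    exact fun x => (δH_eq_zero_iff (shortExact_toAb hT) 0 x).1 (h1.elim _ _)
  let e₁ : Coh.structureModule X ≅ CohB1.tensorMod S.X₃ L' := e.symm ≪≫ TMul.commIso _ _
  obtain ⟨t, ht⟩ := hs (TMul.val e₁.hom ⊤)
  have hσ : homOf t ≫ tmap S.g L' = e₁.hom := TMul.hom_ext_val (by
    show (tmap S.g L').app ⊤ (TMul.val (homOf t) ⊤) = _
    rw [val_homOf, res_self, ht])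
  let s : S.X₃ ⟶ S.X₂ := (TMul.leftUnitIso S.X₃).inv ≫ tmap (homOf t) S.X₃ ≫ (untw e S.X₂).hom
  have hsg : s ≫ S.g = (TMul.leftUnitIso S.X₃).inv ≫ tmap e₁.hom S.X₃ ≫ (untw e S.X₃).hom := by
    simp only [s, Category.assoc]
    rw [← untw_natural e S.g, ← Category.assoc (tmap (homOf t) S.X₃), ← tmap_comp, hσ]
  haveI : IsIso (tmap e₁.hom S.X₃) :=
    ⟨tmap e₁.inv S.X₃, by rw [← tmap_comp, Iso.hom_inv_id, tmap_id], by rw [← tmap_comp, Iso.inv_hom_id, tmap_id]⟩
  haveI : IsIso (s ≫ S.g) := by rw [hsg]; infer_instance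
  exact IsSplitEpi.mk' ⟨inv (s ≫ S.g) ≫ s, by rw [Category.assoc, IsIso.inv_hom_id]⟩

end Groth.Agent.W7Slope
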