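import Groth.Agent.W7Slope.H1Quot
import Groth.Agent.W7Slope.Twist
import Groth.Agent.CurveRR.SmoothPt
import Groth.Agent.CurveRR.Series
import Groth.Agent.CurveOmega.GeneralDual
import Groth.Agent.DetDeg.Main

/-!
A semistable rank-two bundle of degree zero has a theta-twist without sections.
-/

set_option autoImplicit false
set_option linter.style.haveILetI false
set_option linter.unusedSectionVars false
set_option backward.isDefEq.respectTransparency false

universe u

open CategoryTheory CategoryTheory.Limits AlgebraicGeometry TopologicalSpace Opposite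
open Groth.Agent.CurveRR Groth.Agent.CohFinite
open Groth.Agent.CohQC (toAbF)
open TMul (homOf tm)
open Groth.Agent.QC (res res_res res_self app_res section_eq_of_locally)

noncomputable section

namespace Groth.Agent.W7Slope.Theta

section Step

variable {X : Scheme.{u}}

/-- The ideal of a closed point. -/
abbrev pI {P : X} (hP : IsClosed ({P} : Set X)) : X.Modules :=
  ClSub.idealMod (Scheme.IdealSheafData.vanishingIdeal ⟨{P}, hP⟩)

/-- `M ⊗ I_P → M`. -/
def jn {P : X} (hP : IsClosed ({P} : Set X)) (M : X.Modules) : CohB1.tensorMod M (pI hP) ⟶ M :=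
  (TMul.commIso M (pI hP)).hom ≫ idealIncl (Scheme.IdealSheafData.vanishingIdeal ⟨{P}, hP⟩) M

theorem jn_tm {P : X} (hP : IsClosed ({P} : Set X)) (M : X.Modules) {U : X.Opens} (m : Γ(M, U))
    (a : Γ(pI hP, U)) :
    (jn hP M).app U (tm m a) = HSMul.hSMul (α := Γ(X, U))
      ((ClSub.idealModι (Scheme.IdealSheafData.vanishingIdeal ⟨{P}, hP⟩)).app U a) m := by
  show (idealIncl _ M).app U ((TMul.commHom M (pI hP)).app U (tm m a)) = _
  rw [TMul.commHom_tm, idealIncl_tm]

theorem jn_natural {P : X} (hP : IsClosed ({P} : Set X)) {M N : X.Modules} (φ : M ⟶ N) :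
    tmap φ (pI hP) ≫ jn hP N = jn hP M ≫ φ :=
  TMul.hom_ext fun U m a => by
    show (jn hP N).app U ((tmap φ (pI hP)).app U (tm m a)) = φ.app U ((jn hP M).app U (tm m a))
    rw [tmap_tm, jn_tm, jn_tm, TMul.app_smul]

theorem mono_jn {P : X} (hP : IsClosed ({P} : Set X)) {M : X.Modules} {n : ℕ}
    (hM : FlatMod.IsFinLocFreeOfRank n M) : Mono (jn hP M) := by
  haveI := (shortExact_tmapR (hasFrames_of_rank hM) (ideal_shortExact (Scheme.IdealSheafData.vanishingIdeal ⟨{P}, hP⟩))).mono_f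
  haveI : Mono (idealIncl (Scheme.IdealSheafData.vanishingIdeal ⟨{P}, hP⟩) M) := mono_comp _ _
  exact mono_comp _ _

/-- Locally surjective near a point. -/
def LS (z : X) {A B : X.Modules} (φ : A ⟶ B) : Prop :=
  ∀ (U : X.Opens), z ∈ U → ∀ b : Γ(B, U), ∃ (V : X.Opens) (h : V ≤ U) (a : Γ(A, V)), z ∈ V ∧ φ.app V a = res B h b

theorem ls_of_epi (z : X) {A B : X.Modules} (φ : A ⟶ B) [Epi φ] : LS z φ := fun U hz b =>
  let ⟨W, h, hzW, a, ha⟩ := TMul.exists_app_eq_of_epi φ b hz
  ⟨W, h, a, hzW, ha⟩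

theorem ls_comp {z : X} {A B C : X.Modules} {φ : A ⟶ B} {ψ : B ⟶ C} (h₁ : LS z φ) (h₂ : LS z ψ) :
    LS z (φ ≫ ψ) := fun U hz c => by
  obtain ⟨V, hV, b, hzV, hb⟩ := h₂ U hz c
  obtain ⟨W, hW, a, hzW, ha⟩ := h₁ V hzV b
  refine ⟨W, hW.trans hV, a, hzW, ?_⟩
  show ψ.app W (φ.app W a) = _
  rw [ha, ← app_res, hb, res_res]

theorem ls_tmap {z : X} {A B J : X.Modules} (hJ : PicF.IsInvertible J) {φ : A ⟶ B} (h : LS z φ) :
    LS z (tmap φ J) := fun U hz t => by
  obtain ⟨D, g, hzD, hg⟩ := TMul.exists_isGen hJ z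
  obtain ⟨b, hb⟩ := (TMul.tm_bijective (M := B) hg (U ⊓ D) inf_le_right).2 (res _ inf_le_left t)
  obtain ⟨V, hV, a, hzV, ha⟩ := h (U ⊓ D) ⟨hz, hzD⟩ b
  refine ⟨V, hV.trans inf_le_left, tm a (res J (hV.trans inf_le_right) g), hzV, ?_⟩
  rw [tmap_tm, ha, ← res_res _ hV inf_le_left t, ← hb, TMul.res_tm, res_res]

/-- `j` is onto away from the point. -/
theorem ls_jn {P z : X} (hP : IsClosed ({P} : Set X)) (hz : z ≠ P) (M : X.Modules) : LS z (jn hP M) := by
  intro U hzU m
  let C : X.Opens := ⟨({P} : Set X)ᶜ, hP.isOpen_compl⟩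
  obtain ⟨W, hW, hzW, hWC⟩ := exists_isAffineOpen_mem_and_subset (X := X) (x := z) (U := U ⊓ C) ⟨hzU, hz⟩
  have h1 : (1 : Γ(X, W)) ∈ (Scheme.IdealSheafData.vanishingIdeal ⟨{P}, hP⟩).ideal ⟨W, hW⟩ := by
    rw [Scheme.IdealSheafData.vanishingIdeal_ideal, PrimeSpectrum.mem_vanishingIdeal]
    intro p hp
    have hmem : hW.fromSpec p ∈ W := by
      rw [← SetLike.mem_coe, ← hW.range_fromSpec]
      exact ⟨p, rfl⟩
    exact absurd (Set.mem_singleton_iff.1 hp) (hWC hmem).2
  obtain ⟨a, ha⟩ := (Groth.Agent.QC.mem_range_idealModι_affine _ ⟨W, hW⟩ 1).mpr h1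
  refine ⟨W, fun _ h => (hWC h).1, tm (res M (fun _ h => (hWC h).1) m) a, hzW, ?_⟩
  rw [jn_tm, ha, one_smul]

theorem suppIn_coker_jn {P : X} (hP : IsClosed ({P} : Set X)) (M : X.Modules) :
    SuppIn (cokernel (jn hP M)) {P} := fun W s hW => section_eq_of_locally fun y hy => by
  obtain ⟨V, hV, hyV, m, hm⟩ := TMul.exists_app_eq_of_epi (cokernel.π (jn hP M)) s hy
  obtain ⟨V', hV', a, hyV', ha⟩ := ls_jn hP (fun h => hW y hy h) M V hyV m
  refine ⟨V', hV'.trans hV, hyV', ?_⟩
  rw [← res_res _ hV' hV s, ← hm, app_res, ← ha, map_zero]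
  exact congrArg (fun ψ : _ ⟶ cokernel (jn hP M) => ψ.app V' a) (cokernel.condition _)

theorem support_coker_jn {P : X} (hP : IsClosed ({P} : Set X)) (M : X.Modules) :
    CohB1.support (cokernel (jn hP M)) ⊆ {P} := fun y hy => by
  by_contra hne
  refine hy (subsingleton_of_forall_eq 0 fun v => ?_)
  obtain ⟨U, hU, s, rfl⟩ := TopCat.Presheaf.exists_germ_eq (cokernel (jn hP M)).presheaf v
  let C : X.Opens := ⟨({P} : Set X)ᶜ, hP.isOpen_compl⟩
  rw [← TopCat.Presheaf.germ_res_apply (cokernel (jn hP M)).presheaf (homOfLE (inf_le_left : U ⊓ C ≤ U)) y ⟨hU, hne⟩]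
  have h0 := suppIn_coker_jn hP M _ (res (cokernel (jn hP M)) (inf_le_left : U ⊓ C ≤ U) s) fun z hz hzP => hz.2 hzP
  exact (congrArg _ h0).trans (map_zero _)

/-- `M → M ⊗ O(P)`. -/
def st {P : X} (hP : IsClosed ({P} : Set X)) {J : X.Modules}
    (e : CohB1.tensorMod J (pI hP) ≅ Coh.structureModule X) (M : X.Modules) : M ⟶ CohB1.tensorMod M J :=
  (untw e M).inv ≫ jn hP (CohB1.tensorMod M J)

theorem st_natural {P : X} (hP : IsClosed ({P} : Set X)) {J : X.Modules}
    (e : CohB1.tensorMod J (pI hP) ≅ Coh.structureModule X) {M N : X.Modules} (φ : M ⟶ N) :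
    φ ≫ st hP e N = st hP e M ≫ tmap φ J := by
  have h : φ ≫ (untw e N).inv = (untw e M).inv ≫ tmap (tmap φ J) (pI hP) := by
    rw [Iso.comp_inv_eq, Category.assoc, untw_natural, Iso.inv_hom_id_assoc]
  rw [st, st, ← Category.assoc, h, Category.assoc, Category.assoc, jn_natural]

theorem ls_st {P z : X} (hP : IsClosed ({P} : Set X)) (hz : z ≠ P) {J : X.Modules}
    (e : CohB1.tensorMod J (pI hP) ≅ Coh.structureModule X) (M : X.Modules) : LS z (st hP e M) :=
  ls_comp (ls_of_epi z _) (ls_jn hP hz _)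

/-- Local surjectivity gives surjectivity on the sections of the skyscrapers. -/
theorem surjective_coker_map {P : X} (hP : IsClosed ({P} : Set X)) {A B : X.Modules} (φ : A ⟶ B) (hφ : LS P φ)
    (θ : cokernel (jn hP A) ⟶ cokernel (jn hP B)) (hθ : cokernel.π (jn hP A) ≫ θ = φ ≫ cokernel.π (jn hP B)) :
    Function.Surjective (θ.app ⊤) := fun t => by
  obtain ⟨W, hW, hPW, m, hm⟩ := TMul.exists_app_eq_of_epi (cokernel.π (jn hP B)) t (Opens.mem_top P)
  obtain ⟨V, hV, a, hPV, ha⟩ := hφ W hPW m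
  let C : X.Opens := ⟨({P} : Set X)ᶜ, hP.isOpen_compl⟩
  obtain ⟨s, hs, -⟩ := TopCat.Sheaf.existsUnique_gluing' (Groth.Agent.QC.abSheaf (cokernel (jn hP A)))
    (fun i : Bool => if i then V else C) ⊤ (fun i => homOfLE le_top)
    (fun y _ => Opens.mem_iSup.mpr (by
      by_cases hy : y = P
      · exact ⟨true, hy ▸ hPV⟩
      · exact ⟨false, hy⟩))
    (fun i => match i with
      | true => (cokernel.π (jn hP A)).app V a
      | false => (0 : Γ(cokernel (jn hP A), C)))
    (by
      suffices key : ∀ (U : X.Opens) (h1 : U ≤ V) (h2 : U ≤ C), res _ h1 ((cokernel.π (jn hP A)).app V a) =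
          res (cokernel (jn hP A)) h2 (0 : Γ(cokernel (jn hP A), C)) by
        rintro (_ | _) (_ | _)
        · rfl
        · exact (key _ inf_le_right inf_le_left).symm
        · exact key _ inf_le_left inf_le_right
        · rfl
      intro U h1 h2
      rw [map_zero]
      exact suppIn_coker_jn hP A _ _ fun z hz hzP => h2 hz hzP)
  refine ⟨s, section_eq_of_locally fun y _ => ?_⟩
  by_cases hy : y = P
  · subst hy
    refine ⟨V, le_top, hPV, ?_⟩
    rw [app_res, show res _ le_top s = (cokernel.π (jn hP A)).app V a from hs true,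
      ← res_res _ hV hW t, ← hm, app_res, ← ha]
    exact congrArg (fun ψ : A ⟶ cokernel (jn hP B) => ψ.app V a) hθ
  · refine ⟨C, le_top, hy, ?_⟩
    rw [app_res, show res _ le_top s = (0 : Γ(cokernel (jn hP A), C)) from hs false, map_zero]
    exact (suppIn_coker_jn hP B C _ fun z hz hzP => hz hzP).symm

variable {k : Type u} [Field k] [X.Over (Spec (CommRingCat.of k))] [IsProper (X ↘ Spec (CommRingCat.of k))]

omit [IsProper (X ↘ Spec (CommRingCat.of k))] in
/-- The connecting map is natural. -/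
theorem hhδ_natural {S T : ShortComplex X.Modules} (hS : S.ShortExact) (hT : T.ShortExact) (f : S ⟶ T) (q : ℕ)
    (x : Coh.HH X S.X₃ q) :
    hhMap k f.τ₁ (q + 1) (hhδ k hS q x) = hhδ k hT q (hhMap k f.τ₃ q x) :=
  (δH_natural (shortExact_toAb hS) (shortExact_toAb hT) ((toAbF X).mapShortComplex.map f) q x).symm

/-- Classes killed in the middle lift along a morphism of short exact sequences. -/
theorem lift_killed {S T : ShortComplex X.Modules} (hS : S.ShortExact) (hT : T.ShortExact) (f : S ⟶ T)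
    (hf : Function.Surjective (f.τ₃.app ⊤)) (c : Coh.HH X T.X₁ 1) (hc : hhMap k T.f 1 c = 0) :
    ∃ d, hhMap k S.f 1 d = 0 ∧ hhMap k f.τ₁ 1 d = c := by
  obtain ⟨y, hy⟩ := (range_δ_eq_ker_f (k := k) hT 0).ge (LinearMap.mem_ker.2 hc)
  obtain ⟨x, hx⟩ := ((surjective_hh0_iff (k := k) f.τ₃).2 hf) y
  refine ⟨hhδ k hS 0 x,
    LinearMap.mem_ker.1 ((range_δ_eq_ker_f (k := k) hS 0).le (LinearMap.mem_range_self _ x)), ?_⟩
  rw [← hy, ← hx]
  exact hhδ_natural hS hT f 0 x

variable (k) in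
/-- Classes killed by `j` come from classes killed by `j`. -/
theorem lift_killed_jn {P : X} (hP : IsClosed ({P} : Set X)) {A B : X.Modules} {a b : ℕ}
    (hA : FlatMod.IsFinLocFreeOfRank a A) (hB : FlatMod.IsFinLocFreeOfRank b B) (φ : A ⟶ B) (hφ : LS P φ)
    (c : Coh.HH X (CohB1.tensorMod B (pI hP)) 1) (hc : hhMap k (jn hP B) 1 c = 0) :
    ∃ d, hhMap k (jn hP A) 1 d = 0 ∧ hhMap k (tmap φ (pI hP)) 1 d = c := by
  haveI := mono_jn hP hA
  haveI := mono_jn hP hB
  have hSA : (ShortComplex.mk (jn hP A) (cokernel.π _) (cokernel.condition _)).ShortExact :=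
    { exact := ShortComplex.exact_cokernel _ }
  have hSB : (ShortComplex.mk (jn hP B) (cokernel.π _) (cokernel.condition _)).ShortExact :=
    { exact := ShortComplex.exact_cokernel _ }
  let θ : cokernel (jn hP A) ⟶ cokernel (jn hP B) :=
    cokernel.map _ _ (tmap φ (pI hP)) φ (jn_natural hP φ).symm
  have hπ : cokernel.π (jn hP A) ≫ θ = φ ≫ cokernel.π (jn hP B) := cokernel.π_desc _ _ _
  let S : ShortComplex X.Modules := ShortComplex.mk (jn hP A) (cokernel.π _) (cokernel.condition _)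
  let T : ShortComplex X.Modules := ShortComplex.mk (jn hP B) (cokernel.π _) (cokernel.condition _)
  let f : S ⟶ T :=
    { τ₁ := tmap φ (pI hP), τ₂ := φ, τ₃ := θ, comm₁₂ := jn_natural hP φ, comm₂₃ := hπ.symm }
  exact lift_killed (S := S) (T := T) hSA hSB f (surjective_coker_map hP φ hφ θ hπ) c hc

end Step

section Curve

variable (k : Type u) [Field k] [IsAlgClosed k] {X : Scheme.{u}} [X.Over (Spec (CommRingCat.of k))]
  [IsProper (X ↘ Spec (CommRingCat.of k))] [Smooth (X ↘ Spec (CommRingCat.of k))] [IsIntegral X]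
  (hdim : topologicalKrullDim X = 1)

/-- A closed point with its twist. -/
structure Pt where
  P : X
  hP : IsClosed ({P} : Set X)
  J : X.Modules
  hI : PicF.IsInvertible (pI hP)
  hJ : PicF.IsInvertible J
  e : CohB1.tensorMod J (pI hP) ≅ Coh.structureModule X

include k hdim in
theorem exists_pt (O : X.Opens) (hO : genericPoint X ∈ O) :
    ∃ p : Pt (X := X), p.P ∈ O ∧ Curv2.deg k X p.J 1 = 1 ∧ Curv2.deg k X (pI p.hP) 1 = -1 := by
  haveI := isNoetherian_of_proper k X
  obtain ⟨P, hP, hPO, hreg⟩ := exists_closed_regular_mem (k := k) O hO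
  have hI := isInvertible_pointIdeal hdim.le hP (genericPoint_ne_of_closed (k := k) hdim hP) hreg
  obtain ⟨J, hJ, hd, ⟨e⟩⟩ := exists_point_inverse (k := k) hP hI
  refine ⟨⟨P, hP, J, hI, hJ, TMul.commIso _ _ ≪≫ e⟩, hPO, hd, ?_⟩
  have h := deg_twist (k := k) hdim.le (isFinLocFreeOfRank_one hI) hJ
  rw [deg_iso (k := k) e, deg_structure, hd] at h
  push_cast at h
  show Curv2.deg k X (ClSub.idealMod (Scheme.IdealSheafData.vanishingIdeal ⟨{P}, hP⟩)) 1 = -1
  omega

include k in
/-- A nonzero class in `H^0` of an invertible module is nonzero at general points. -/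
theorem exists_open_not_range {A : X.Modules} (hA : PicF.IsInvertible A) (s : Coh.HH X A 0) (hs : s ≠ 0) :
    ∃ O : X.Opens, genericPoint X ∈ O ∧
      ∀ (P : X) (hP : IsClosed ({P} : Set X)), P ∈ O → s ∉ LinearMap.range (hhMap k (jn hP A) 0) := by
  letI := secMod k A ⊤
  let t : Γ(A, ⊤) := (secH0 (k := k) A).symm s
  have ht : t ≠ 0 := fun h => hs (by
    have := (secH0 (k := k) A).apply_symm_apply s
    rw [show (secH0 (k := k) A).symm s = 0 from h, map_zero] at this
    exact this.symm)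
  refine ⟨CohB1.genLocus A (homOf t), generic_mem_genLocus hA ht, fun P hP hPO ⟨x, hx⟩ => ?_⟩
  set I := Scheme.IdealSheafData.vanishingIdeal ⟨{P}, hP⟩
  letI := secMod k (CohB1.tensorMod (ClSub.idealMod I) A) ⊤
  let y := hhMap k (TMul.commIso A (pI hP)).hom 0 x
  have hu : (idealIncl I A).app ⊤ ((secH0 (k := k) _).symm y) = t := (secH0 (k := k) A).injective (by
    rw [← hhMap_secH0 (k := k), LinearEquiv.apply_symm_apply, LinearEquiv.apply_symm_apply, ← hhMap_comp]
    exact hx)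
  exact notMem_genLocus_idealIncl hA I _ (z := P) (by simp [I]) (hu.symm ▸ hPO)

include k hdim in
theorem h0_jn_le (p : Pt (X := X)) {F : X.Modules} {n : ℕ} (hF : FlatMod.IsFinLocFreeOfRank n F) :
    h k (CohB1.tensorMod F (pI p.hP)) 0 ≤ h k F 0 ∧
      ∀ s, s ∉ LinearMap.range (hhMap k (jn p.hP F) 0) → h k (CohB1.tensorMod F (pI p.hP)) 0 < h k F 0 := by
  haveI := isNoetherian_of_proper k X
  haveI := mono_jn p.hP hF
  haveI := finite_proper k X F (isCoh_of_rank hF) 0
  haveI := finite_proper k X _ (isCoh_of_rank (rank_tensor_inv hF p.hI)) 0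
  have hS : (ShortComplex.mk (jn p.hP F) (cokernel.π _) (cokernel.condition _)).ShortExact :=
    { exact := ShortComplex.exact_cokernel _ }
  have hi := injective_f (k := k) hS
  refine ⟨LinearMap.finrank_le_finrank_of_injective hi, fun s hs => ?_⟩
  rw [show h k (CohB1.tensorMod F (pI p.hP)) 0 = Module.finrank k (LinearMap.range (hhMap k (jn p.hP F) 0)) from
    (LinearMap.finrank_range_of_inj hi).symm]
  exact Submodule.finrank_lt fun h => hs (h ▸ Submodule.mem_top)

include k hdim in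
/-- A line module with nonzero `H^1` loses one dimension at a general point. -/
theorem exists_open_kill {M : X.Modules} (hM : PicF.IsInvertible M) (h1 : 0 < h k M 1) :
    ∃ O : X.Opens, genericPoint X ∈ O ∧
      ∀ p : Pt (X := X), p.P ∈ O → ∃ c, c ≠ 0 ∧ hhMap k (st p.hP p.e M) 1 c = 0 := by
  haveI := isNoetherian_of_proper k X
  have h00 := h0_structure k X
  obtain ⟨M', hM', ⟨e⟩⟩ := W7Hull.exists_tensor_inverse hM
  have hΩ := CurveOmega.isInvertible_omega k X hdim h00
  let N := CohB1.tensorMod (Omega.sheaf (X ↘ Spec (CommRingCat.of k))) M'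
  have hN : PicF.IsInvertible N := TMul.isInvertible_tensorMod hΩ hM'
  have h1' : h k M 1 = h k N 0 := CurveOmega.h1_eq' k X hdim h00 hM e
  obtain ⟨t, ht⟩ : ∃ t : Coh.HH X N 0, t ≠ 0 :=
    haveI : Nontrivial (Coh.HH X N 0) := Module.nontrivial_of_finrank_pos (h1' ▸ h1 : 0 < h k N 0)
    exists_ne 0
  obtain ⟨O, hO, hO'⟩ := exists_open_not_range k hN t ht
  refine ⟨O, hO, fun p hp => ?_⟩
  have hlt := (h0_jn_le k hdim p (isFinLocFreeOfRank_one hN)).2 t (hO' p.P p.hP hp)
  let e' : CohB1.tensorMod (CohB1.tensorMod M p.J) (CohB1.tensorMod M' (pI p.hP)) ≅ Coh.structureModule X :=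
    PicGrp.tensorModIso (Iso.refl _) (TMul.commIso _ _) ≪≫ (TMul.assocIso _ _ _).symm ≪≫
      PicGrp.tensorModIso (untw p.e M) (Iso.refl _) ≪≫ e
  have h2 : h k (CohB1.tensorMod M p.J) 1 = h k (CohB1.tensorMod N (pI p.hP)) 0 :=
    (CurveOmega.h1_eq' k X hdim h00 (TMul.isInvertible_tensorMod hM p.hJ) e').trans
      (h_eq_of_iso (TMul.assocIso _ _ _).symm 0)
  haveI := finite_proper k X M (isCoh_of_inv hM) 1
  haveI := finite_proper k X _ (isCoh_of_inv (TMul.isInvertible_tensorMod hM p.hJ)) 1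
  by_contra! hno
  have hinj : Function.Injective (hhMap k (st p.hP p.e M) 1) :=
    (injective_iff_map_eq_zero _).2 fun c hc => by_contra fun hc0 => hno c hc0 hc
  have := LinearMap.finrank_le_finrank_of_injective hinj
  change h k M 1 ≤ h k (CohB1.tensorMod M p.J) 1 at this
  omega

theorem h1_st_surjective (p : Pt (X := X)) (hd : topologicalKrullDim X ≤ 1) (M : X.Modules) :
    Function.Surjective (hhMap k (st p.hP p.e M) 1) := fun y => by
  obtain ⟨x, hx⟩ := h1_surjective (k := k) hd (jn p.hP (CohB1.tensorMod M p.J)) p.hP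
    (topologicalKrullDim_zero_of_discreteTopology _) (support_coker_jn p.hP _) y
  refine ⟨hhMap k (untw p.e M).hom 1 x, ?_⟩
  rw [← hhMap_comp, st, Iso.hom_inv_id_assoc, hx]

/-- Classes killed by `st` come from classes killed by `st`. -/
theorem lift_killed_st (p : Pt (X := X)) {A B : X.Modules} {a b : ℕ}
    (hA : FlatMod.IsFinLocFreeOfRank a A) (hB : FlatMod.IsFinLocFreeOfRank b B) (φ : A ⟶ B) (hφ : LS p.P φ)
    (c : Coh.HH X B 1) (hc : hhMap k (st p.hP p.e B) 1 c = 0) :
    ∃ d, hhMap k (st p.hP p.e A) 1 d = 0 ∧ hhMap k φ 1 d = c := by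
  haveI := isNoetherian_of_proper k X
  obtain ⟨d, hd, hdc⟩ := lift_killed_jn k p.hP (rank_tensor_inv hA p.hJ) (rank_tensor_inv hB p.hJ) (tmap φ p.J)
    (ls_tmap p.hJ hφ) (hhMap k (untw p.e B).inv 1 c) (by rw [← hhMap_comp]; exact hc)
  refine ⟨hhMap k (untw p.e A).hom 1 d, ?_, ?_⟩
  · rw [← hhMap_comp, st, Iso.hom_inv_id_assoc, hd]
  · rw [← hhMap_comp, ← untw_natural, hhMap_comp, hdc, ← hhMap_comp, Iso.inv_hom_id, hhMap_id]

include k hdim in
/-- Classes killed at general points span `H^1` of a line module. -/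
theorem exists_kill_notMem (n : ℕ) : ∀ {M : X.Modules}, PicF.IsInvertible M → h k M 1 = n →
    ∀ W : Submodule k (Coh.HH X M 1), W ≠ ⊤ → ∀ O : X.Opens, genericPoint X ∈ O →
      ∃ p : Pt (X := X), p.P ∈ O ∧ ∃ c, c ∉ W ∧ hhMap k (st p.hP p.e M) 1 c = 0 := by
  haveI := isNoetherian_of_proper k X
  induction n using Nat.strong_induction_on with
  | _ n ih =>
    intro M hM hn W hW O hO
    haveI := finite_proper k X M (isCoh_of_inv hM) 1
    have hpos : 0 < h k M 1 := Nat.pos_of_ne_zero fun h0 => by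
      haveI : Subsingleton (Coh.HH X M 1) := Module.finrank_zero_iff.1 h0
      exact hW (Subsingleton.elim _ _)
    obtain ⟨O₁, hO₁, hkill⟩ := exists_open_kill k hdim hM hpos
    obtain ⟨p, hp, -, -⟩ := exists_pt k hdim (O ⊓ O₁) ⟨hO, hO₁⟩
    obtain ⟨c, hc0, hc⟩ := hkill p hp.2
    let a := hhMap k (st p.hP p.e M) 1
    by_cases hle : LinearMap.ker a ≤ W
    · have hMJ := TMul.isInvertible_tensorMod hM p.hJ
      haveI := finite_proper k X _ (isCoh_of_inv hMJ) 1
      have hlt : h k (CohB1.tensorMod M p.J) 1 < n := by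
        have h2 := a.finrank_range_add_finrank_ker
        rw [LinearMap.range_eq_top.2 (h1_st_surjective k p hdim.le M), finrank_top] at h2
        have h3 : 0 < Module.finrank k (LinearMap.ker a) :=
          Module.finrank_pos_iff.2 ⟨⟨c, hc⟩, 0, fun h => hc0 congr($h.1)⟩
        change h k _ 1 + _ = h k M 1 at h2
        omega
      have hW1 : W.map a ≠ ⊤ := fun htop => hW (by
        have := congrArg (Submodule.comap a) htop
        rwa [Submodule.comap_map_eq, sup_of_le_left hle, Submodule.comap_top] at this)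
      let C : X.Opens := ⟨({p.P} : Set X)ᶜ, p.hP.isOpen_compl⟩
      obtain ⟨q, hq, d, hdW, hd⟩ := ih _ hlt hMJ rfl (W.map a) hW1 (O ⊓ C)
        ⟨hO, genericPoint_ne_of_closed (k := k) hdim p.hP⟩
      obtain ⟨d', hd', hd''⟩ := lift_killed_st k q (isFinLocFreeOfRank_one hM) (isFinLocFreeOfRank_one hMJ)
        (st p.hP p.e M) (ls_st p.hP hq.2 p.e M) d hd
      exact ⟨q, hq.1, d', fun h => hdW ⟨d', h, hd''⟩, hd'⟩
    · obtain ⟨c', hc', hc'W⟩ := SetLike.not_le_iff_exists.1 hle
      exact ⟨p, hp.1, c', hc'W, hc'⟩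

include k hdim in
/-- A semistable rank-two module of degree zero has an invertible twist of degree `g - 1` without sections. -/
theorem exists_twist_no_sections {g : ℕ} (hg : Curv2.genus k X = g) {E : X.Modules}
    (hE : FlatMod.IsFinLocFreeOfRank 2 E) (hd : Curv2.deg k X E 2 = 0)
    (hss : ModFun.IsSlopeSemistable k X E 2) :
    ∃ L : X.Modules, PicF.IsInvertible L ∧ Curv2.deg k X L 1 = (g : ℤ) - 1 ∧
      Subsingleton (Coh.HH X (CohB1.tensorMod E L) 0) := by
  classical
  haveI := isNoetherian_of_proper k X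
  have hR : RegCurve X := regCurve_of_smooth (k := k) hdim
  have hO1 := euler_structure (k := k) hdim.le (h0_structure k X)
  rw [hg] at hO1
  let Pr : ℕ → Prop := fun n => ∃ L : X.Modules, PicF.IsInvertible L ∧ Curv2.deg k X L 1 = (g : ℤ) - 1 ∧
    h k (CohB1.tensorMod E L) 0 = n
  have hne : ∃ n, Pr n := by
    obtain ⟨p, -, hdJ, hdI⟩ := exists_pt k hdim (⊤ : X.Opens) trivial
    refine ⟨_, CohB1.tensorMod (CohB1.tensorPow p.J g) (pI p.hP),
      TMul.isInvertible_tensorMod (TMul.isInvertible_tensorPow p.hJ g) p.hI, ?_, rfl⟩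
    rw [deg_twist hdim.le (isFinLocFreeOfRank_one (TMul.isInvertible_tensorPow p.hJ g)) p.hI,
      deg_tensorPow hdim.le p.hJ, hdJ, hdI]
    push_cast
    ring
  obtain ⟨L, hL, hdL, hm⟩ := Nat.find_spec hne
  set m := Nat.find hne
  set F := CohB1.tensorMod E L with hFdef
  have hF := rank_tensor_inv hE hL
  have hFc := isCoh_of_rank hF
  rcases Nat.eq_zero_or_pos m with hm0 | hm0
  · haveI := finite_proper k X F hFc 0
    exact ⟨L, hL, hdL, Module.finrank_zero_iff.1 (hm.trans hm0)⟩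
  exfalso
  have hdF : Curv2.deg k X F 2 = 2 * ((g : ℤ) - 1) := by
    rw [deg_twist hdim.le hE hL, hd, hdL]; push_cast; ring
  have hχ : ∀ {M : X.Modules} {n : ℕ}, (h k M 0 : ℤ) - h k M 1 = Curv2.deg k X M n + n * (1 - (g : ℤ)) :=
    fun {M n} => by
      rw [← euler_eq hdim.le, Curv2.deg, hO1]; ring
  have hF1 : h k F 1 = m := by
    have := @hχ F 2
    rw [hdF, hm] at this
    push_cast at this
    omega
  have hF1' : ¬ Subsingleton (Coh.HH X F 1) := fun _ => by
    have : h k F 1 = 0 := Module.finrank_zero_of_subsingleton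
    omega
  obtain ⟨Q, K, p, i, n, hp, hi, w, hQ, hK, hn, hQ1, hdeg⟩ := exists_invertible_quotient k hdim hR hF hF1'
  obtain rfl : n = 1 := by omega
  have hKi := ZeroSch.isInvertible_of_rankOne hK
  have hKc := isCoh_of_rank hK
  -- the kernel is the given submodule
  let i' : K ⟶ kernel p := kernel.lift p i w
  haveI : Mono i' := mono_of_mono_fac (kernel.lift_ι p i w)
  have hkp := shortExact_ker p
  have hkK : IsIso i' := by
    have hc := isCoh_kernel k hFc (isCoh_of_inv hQ) p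
    have hkr := isFinLocFree_sub k hR (kernel.ι p) hc hF
    have g1 := grk_add hkp hFc
    change grk F = grk (kernel p) + grk Q at g1
    rw [grk_of_rank hF, grk_of_rank (isFinLocFreeOfRank_one hQ)] at g1
    rw [show grk (kernel p) = 1 by omega] at hkr
    refine isIso_of_mono k hR hK hkr ?_ i'
    have g2 := cdeg_add (k := k) hkp hc hFc (isCoh_of_inv hQ)
    change cdeg k F = cdeg k (kernel p) + cdeg k Q at g2
    rw [← deg_eq hF, ← deg_eq hkr, ← deg_eq (isFinLocFreeOfRank_one hQ)] at g2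
    omega
  have hS : (ShortComplex.mk i p w).ShortExact := by
    refine ShortComplex.shortExact_of_iso (S₁ := ShortComplex.mk (kernel.ι p) p (kernel.condition p))
      (ShortComplex.isoMk (asIso i').symm (Iso.refl _) (Iso.refl _) ?_ ?_) hkp
    · simp only [Iso.symm_hom, asIso_inv, Iso.refl_hom, Category.comp_id]
      rw [IsIso.inv_comp_eq, kernel.lift_ι]
    · simp
  -- degrees
  have hdK : Curv2.deg k X K 1 ≤ (g : ℤ) - 1 := by
    obtain ⟨L', hL', ⟨eL⟩⟩ := W7Hull.exists_tensor_inverse hL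
    haveI := mono_tmap hL' i
    let ι' : CohB1.tensorMod K L' ⟶ E := tmap i L' ≫ (untw eL E).hom
    haveI : Mono ι' := mono_comp _ _
    have hh := sub_le k hss ι' (rank_tensor_inv hK hL')
    rw [deg_twist hdim.le hK hL', hd] at hh
    have hdL' := deg_twist (k := k) hdim.le (isFinLocFreeOfRank_one hL) hL'
    rw [deg_iso (k := k) eL, deg_structure, hdL] at hdL'
    push_cast at hh hdL'
    omega
  haveI := finite_proper k X F hFc 1
  haveI := finite_proper k X Q (isCoh_of_inv hQ) 1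
  have hQm : h k Q 1 ≤ m := by
    have hsurj := surjective_h1 (k := k) hdim.le hS
    have := LinearMap.finrank_range_le (hhMap k p 1)
    rw [LinearMap.range_eq_top.2 hsurj, finrank_top] at this
    change h k Q 1 ≤ h k F 1 at this
    omega
  have hQpos : 0 < h k Q 1 := Module.finrank_pos_iff.2 (not_subsingleton_iff_nontrivial.1 hQ1)
  have hQ0 : 0 < h k Q 0 := by
    have := @hχ Q 1
    push_cast at this
    have hdF' : Curv2.deg k X (CohB1.tensorMod E L) 2 = 2 * ((g : ℤ) - 1) := hdF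
    omega
  -- the first point
  obtain ⟨t, ht⟩ : ∃ t : Coh.HH X Q 0, t ≠ 0 :=
    haveI : Nontrivial (Coh.HH X Q 0) := Module.nontrivial_of_finrank_pos hQ0
    exists_ne 0
  obtain ⟨O₁, hO₁, ht'⟩ := exists_open_not_range k hQ t ht
  obtain ⟨s, hs⟩ : ∃ s : Coh.HH X F 0, s ≠ 0 :=
    haveI : Nontrivial (Coh.HH X F 0) := Module.nontrivial_of_finrank_pos (hm.symm ▸ hm0 : 0 < h k F 0)
    exists_ne 0
  obtain ⟨O₂, hO₂, hs'⟩ : ∃ O₂ : X.Opens, genericPoint X ∈ O₂ ∧ ∀ (P : X) (hP : IsClosed ({P} : Set X)),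
      P ∈ O₂ → PicF.IsInvertible (pI hP) → s ∉ LinearMap.range (hhMap k (jn hP F) 0) := by
    by_cases hps : hhMap k p 0 s = 0
    · obtain ⟨sK, rfl⟩ := (range_f_eq_ker_g hS 0).ge (LinearMap.mem_ker.2 hps)
      obtain ⟨O₂, hO₂, h₂⟩ := exists_open_not_range k hKi sK (fun h => hs (by rw [h, map_zero]))
      refine ⟨O₂, hO₂, fun P hP hPO hI ⟨u, hu⟩ => h₂ P hP hPO ?_⟩
      have hTS := shortExact_tmap hI hS
      have h0 : hhMap k (tmap p (pI hP)) 0 u = 0 := by
        haveI := mono_jn hP (isFinLocFreeOfRank_one hQ)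
        refine injective_f (k := k) (S := ShortComplex.mk (jn hP Q) (cokernel.π _) (cokernel.condition _))
          { exact := ShortComplex.exact_cokernel _ } ?_
        rw [map_zero]
        show hhMap k (jn hP Q) 0 _ = 0
        rw [← hhMap_comp, jn_natural, hhMap_comp, hu]
        exact hps
      obtain ⟨w', rfl⟩ := (range_f_eq_ker_g hTS 0).ge (LinearMap.mem_ker.2 h0)
      refine ⟨w', injective_f (k := k) hS ?_⟩
      show hhMap k i 0 (hhMap k (jn hP K) 0 w') = hhMap k i 0 sK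
      rw [← hhMap_comp, ← jn_natural, hhMap_comp]
      exact hu
    · obtain ⟨O₂, hO₂, h₂⟩ := exists_open_not_range k hQ _ hps
      refine ⟨O₂, hO₂, fun P hP hPO _ ⟨u, hu⟩ => h₂ P hP hPO ⟨hhMap k (tmap p (pI hP)) 0 u, ?_⟩⟩
      rw [← hhMap_comp, jn_natural, hhMap_comp, hu]
  obtain ⟨y, hy, -, hdIy⟩ := exists_pt k hdim (O₁ ⊓ O₂) ⟨hO₁, hO₂⟩
  set G := CohB1.tensorMod F (pI y.hP) with hGdef
  set Q' := CohB1.tensorMod Q (pI y.hP) with hQ'def
  set K' := CohB1.tensorMod K (pI y.hP) with hK'def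
  have hG := rank_tensor_inv hF y.hI
  have hQ' := TMul.isInvertible_tensorMod hQ y.hI
  have hK' := TMul.isInvertible_tensorMod hKi y.hI
  have hG0 : h k G 0 < m := hm ▸ (h0_jn_le k hdim y hF).2 s (hs' y.P y.hP hy.2 y.hI)
  have hQ'0 : h k Q' 0 < h k Q 0 := (h0_jn_le k hdim y (isFinLocFreeOfRank_one hQ)).2 t (ht' y.P y.hP hy.1)
  have hG1 : h k G 1 = h k G 0 + 2 := by
    have := @hχ G 2
    rw [deg_twist hdim.le hF y.hI, hdF, hdIy] at this
    push_cast at this
    omega
  have hQ'1 : h k Q' 1 ≤ h k Q 1 ∧ 0 < h k Q' 1 := by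
    have h1 := @hχ Q' 1
    have h2 := @hχ Q 1
    rw [deg_twist hdim.le (isFinLocFreeOfRank_one hQ) y.hI, hdIy] at h1
    push_cast at h1 h2
    haveI := mono_jn y.hP (isFinLocFreeOfRank_one hQ)
    have hsj : Function.Surjective (hhMap k (jn y.hP Q) 1) := h1_surjective (k := k) hdim.le (jn y.hP Q) y.hP
      (topologicalKrullDim_zero_of_discreteTopology _) (support_coker_jn y.hP Q)
    haveI := finite_proper k X Q' (isCoh_of_inv hQ') 1
    have := LinearMap.finrank_range_le (hhMap k (jn y.hP Q) 1)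
    rw [LinearMap.range_eq_top.2 hsj, finrank_top] at this
    change h k Q 1 ≤ h k Q' 1 at this
    omega
  -- the second point
  have hT := shortExact_tmap y.hI hS
  obtain ⟨O₃, hO₃, hkill⟩ := exists_open_kill k hdim hQ' hQ'1.2
  have key : ∀ x : Pt (X := X), Curv2.deg k X x.J 1 = 1 → m ≤ h k (CohB1.tensorMod G x.J) 0 := fun x hx => by
    refine Nat.find_le ⟨CohB1.tensorMod (CohB1.tensorMod L (pI y.hP)) x.J,
      TMul.isInvertible_tensorMod (TMul.isInvertible_tensorMod hL y.hI) x.hJ, ?_,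
      h_eq_of_iso (PicGrp.tensorModIso (TMul.assocIso E L (pI y.hP)) (Iso.refl _) ≪≫ TMul.assocIso _ _ _).symm 0⟩
    rw [deg_twist hdim.le (isFinLocFreeOfRank_one (TMul.isInvertible_tensorMod hL y.hI)) x.hJ,
      deg_twist hdim.le (isFinLocFreeOfRank_one hL) y.hI, hdL, hdIy, hx]
    push_cast
    ring
  haveI := finite_proper k X G (isCoh_of_rank hG) 1
  haveI := finite_proper k X Q' (isCoh_of_inv hQ') 1
  haveI := finite_proper k X K' (isCoh_of_inv hK') 1
  have drop : ∀ x : Pt (X := X),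
      h k (CohB1.tensorMod G x.J) 1 + Module.finrank k (LinearMap.ker (hhMap k (st x.hP x.e G) 1)) = h k G 1 ∧
      h k (CohB1.tensorMod G x.J) 1 = h k (CohB1.tensorMod G x.J) 0 ∨ Curv2.deg k X x.J 1 ≠ 1 := fun x => by
    by_cases hx : Curv2.deg k X x.J 1 = 1
    · refine Or.inl ⟨?_, ?_⟩
      · have h2 := (hhMap k (st x.hP x.e G) 1).finrank_range_add_finrank_ker
        rw [LinearMap.range_eq_top.2 (h1_st_surjective k x hdim.le G), finrank_top] at h2
        exact h2
      · have := @hχ (CohB1.tensorMod G x.J) 2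
        rw [deg_twist hdim.le hG x.hJ, deg_twist hdim.le hF y.hI, hdF, hdIy, hx] at this
        push_cast at this
        omega
    · exact Or.inr hx
  have hlift : ∀ x : Pt (X := X), x.P ∈ O₃ → ∃ c, hhMap k (st x.hP x.e G) 1 c = 0 ∧
      hhMap k (tmap p (pI y.hP)) 1 c ≠ 0 := fun x hx => by
    obtain ⟨c, hc0, hc⟩ := hkill x hx
    obtain ⟨d, hd1, hd2⟩ := lift_killed_st k x hG (isFinLocFreeOfRank_one hQ') (tmap p (pI y.hP))
      (haveI := hT.epi_g; ls_of_epi _ _) c hc
    exact ⟨d, hd1, hd2 ▸ hc0⟩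
  by_cases hGm : h k G 0 + 1 < m
  · obtain ⟨x, hx, hdx, -⟩ := exists_pt k hdim O₃ hO₃
    obtain ⟨c, hc, hc'⟩ := hlift x hx
    rcases drop x with ⟨h1, h2⟩ | h3
    · have : 0 < Module.finrank k (LinearMap.ker (hhMap k (st x.hP x.e G) 1)) :=
        Module.finrank_pos_iff.2 ⟨⟨c, hc⟩, 0, fun h => hc' (by rw [show c = 0 from congr($h.1), map_zero])⟩
      have := key x hdx
      omega
    · exact h3 hdx
  · let ii := hhMap k (tmap i (pI y.hP)) 1
    have hW : LinearMap.ker ii ≠ ⊤ := fun h' => by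
      rw [LinearMap.ker_eq_top] at h'
      have hinj : Function.Injective (hhMap k (tmap p (pI y.hP)) 1) := by
        rw [← LinearMap.ker_eq_bot, ← range_f_eq_ker_g hT 1]
        exact LinearMap.range_eq_bot.2 h'
      have := LinearMap.finrank_le_finrank_of_injective hinj
      change h k G 1 ≤ h k Q' 1 at this
      omega
    obtain ⟨x, hx, d, hdW, hd'⟩ := exists_kill_notMem k hdim _ hK' rfl _ hW O₃ hO₃
    obtain ⟨c, hc, hc'⟩ := hlift x hx
    have hxJ : Curv2.deg k X x.J 1 = 1 := by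
      have h := deg_twist (k := k) hdim.le (isFinLocFreeOfRank_one x.hJ) x.hI
      rw [deg_iso (k := k) x.e, deg_structure] at h
      have h2 := euler_pointIdeal (k := k) x.hP x.hJ
      rw [euler_eq_of_iso (TMul.commIso _ _ ≪≫ x.e)] at h2
      rw [Curv2.deg]
      push_cast
      omega
    rcases drop x with ⟨h1, h2⟩ | h3
    · have hc1 : hhMap k (st x.hP x.e G) 1 (ii d) = 0 := by
        show hhMap k (st x.hP x.e G) 1 (hhMap k (tmap i (pI y.hP)) 1 d) = 0
        rw [← hhMap_comp, st_natural, hhMap_comp, hd', map_zero]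
      have hpd : hhMap k (tmap p (pI y.hP)) 1 (ii d) = 0 :=
        LinearMap.mem_ker.1 ((range_f_eq_ker_g hT 1).le (LinearMap.mem_range_self _ d))
      let r : LinearMap.ker (hhMap k (st x.hP x.e G) 1) →ₗ[k] Coh.HH X Q' 1 :=
        (hhMap k (tmap p (pI y.hP)) 1).comp (Submodule.subtype _)
      have h4 := r.finrank_range_add_finrank_ker
      have h5 : 0 < Module.finrank k (LinearMap.range r) :=
        Module.finrank_pos_iff.2 ⟨⟨_, LinearMap.mem_range_self r ⟨c, hc⟩⟩, 0, fun h => hc' congr($h.1)⟩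
      have h6 : 0 < Module.finrank k (LinearMap.ker r) :=
        Module.finrank_pos_iff.2 ⟨⟨⟨ii d, hc1⟩, hpd⟩, 0, fun h => hdW congr($h.1.1)⟩
      have := key x hxJ
      omega
    · exact h3 hxJ

end Curve

end Groth.Agent.W7Slope.Theta
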